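import Mathlib
import Cfsg.Agent.H92.Leech
import Cfsg.Agent.Golay.Code

/-!
The minimum of the lattice: a non-zero vector of the lattice has sum of squares at least 32.
-/

set_option autoImplicit false

namespace Cfsg.Agent.H94.Leech

open Cfsg Cfsg.Agent.H92.Leech

theorem chi_support_card {x : GolayPt → ℤ} (hc : (fun i => chi (x i)) ∈ golayCode) :
    (Finset.univ.filter fun i => x i % 4 = 2 ∨ x i % 4 = 3).card ∈ [0, 8, 12, 16, 24] := by
  have h := Golay.card_support hc
  have e : support₂ (fun i => chi (x i)) =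
      Finset.univ.filter fun i => x i % 4 = 2 ∨ x i % 4 = 3 := by
    ext i
    simp [support₂, chi]
    omega
  rw [e] at h
  simpa using h

theorem min_norm {x : GolayPt → ℤ} (hx : x ∈ leechLattice) (h0 : x ≠ 0) : 32 ≤ sqNorm x := by
  obtain ⟨m, hm, hpar, hsum, hc⟩ := mem_iff.mp hx
  have hw := chi_support_card hc
  simp only [List.mem_cons, List.not_mem_nil, or_false] at hw
  rw [sqNorm]
  rcases hm with rfl | rfl
  · set T := Finset.univ.filter fun i => x i % 4 = 2 ∨ x i % 4 = 3 with hT
    by_cases hT0 : T.card = 0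
    · have h4 : ∀ i, (4 : ℤ) ∣ x i := by
        intro i
        have : i ∉ T := by rw [Finset.card_eq_zero] at hT0; simp [hT0]
        simp only [hT, Finset.mem_filter, Finset.mem_univ, true_and] at this
        have := hpar i
        omega
      choose y hy using h4
      obtain ⟨j, hj⟩ : ∃ j, y j ≠ 0 := by
        by_contra hn
        push_neg at hn
        exact h0 (funext fun i => by rw [hy i, hn i, mul_zero]; rfl)
      simp only [hy, ← Finset.mul_sum] at hsum
      have e : ∑ i, x i ^ 2 = 16 * ∑ i, y i ^ 2 := by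
        rw [Finset.mul_sum]
        exact Finset.sum_congr rfl fun i _ => by rw [hy i]; ring
      have hpos : 0 < ∑ i, y i ^ 2 :=
        lt_of_lt_of_le (by positivity) (Finset.single_le_sum (fun i _ => sq_nonneg (y i)) (Finset.mem_univ j))
      have hev : (2 : ℤ) ∣ ∑ i, (y i ^ 2 - y i) := by
        refine Finset.dvd_sum fun i _ => ?_
        have := Int.even_mul_pred_self (y i)
        rw [even_iff_two_dvd] at this
        convert this using 1; ring
      rw [Finset.sum_sub_distrib] at hev
      omega
    · have h8 : (8 : ℤ) ≤ T.card := by omega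
      calc (32 : ℤ) ≤ ∑ _i ∈ T, (4 : ℤ) := by rw [Finset.sum_const, nsmul_eq_mul]; omega
        _ ≤ ∑ i ∈ T, x i ^ 2 := Finset.sum_le_sum fun i hi => by
            simp only [hT, Finset.mem_filter, Finset.mem_univ, true_and] at hi
            have := hpar i
            rcases (show x i ≤ -2 ∨ 2 ≤ x i by omega) with h | h <;> nlinarith
        _ ≤ ∑ i, x i ^ 2 :=
            Finset.sum_le_sum_of_subset_of_nonneg (Finset.subset_univ _) fun i _ _ => sq_nonneg _
  · obtain ⟨j, hj⟩ : ∃ j, x j ≠ 1 ∧ x j ≠ -1 := by
      by_contra hn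
      push_neg at hn
      have hval : ∀ i, x i = 1 - 2 * (if x i % 4 = 2 ∨ x i % 4 = 3 then (1 : ℤ) else 0) := by
        intro i
        by_cases h : x i = 1
        · rw [h]; norm_num
        · rw [hn i h]; norm_num
      rw [Finset.sum_congr rfl fun i _ => hval i, Finset.sum_sub_distrib, ← Finset.mul_sum,
        Finset.sum_boole] at hsum
      simp at hsum
      omega
    have h1 : ∀ i, 1 + (if i = j then (8 : ℤ) else 0) ≤ x i ^ 2 := by
      intro i
      have := hpar i
      split_ifs with h
      · subst h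
        rcases (show x i ≤ -3 ∨ 3 ≤ x i by omega) with h | h <;> nlinarith
      · rcases (show x i ≤ -1 ∨ 1 ≤ x i by omega) with h | h <;> nlinarith
    refine le_trans ?_ (Finset.sum_le_sum fun i _ => h1 i)
    simp [Finset.sum_add_distrib]

theorem sqNorm_two_smul (z : GolayPt → ℤ) : sqNorm (2 • z) = 4 * sqNorm z := by
  simp only [sqNorm, Finset.mul_sum]
  exact Finset.sum_congr rfl fun i _ => by simp only [Pi.smul_apply, nsmul_eq_mul]; ring

theorem sqNorm_sub (x y : GolayPt → ℤ) : sqNorm (x - y) = sqNorm x + sqNorm y - 2 * dotInt x y := by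
  simp only [sqNorm, dotInt, Finset.mul_sum, ← Finset.sum_add_distrib, ← Finset.sum_sub_distrib]
  exact Finset.sum_congr rfl fun i _ => by simp only [Pi.sub_apply]; ring

theorem sqNorm_add (x y : GolayPt → ℤ) : sqNorm (x + y) = sqNorm x + sqNorm y + 2 * dotInt x y := by
  simp only [sqNorm, dotInt, Finset.mul_sum, ← Finset.sum_add_distrib]
  exact Finset.sum_congr rfl fun i _ => by simp only [Pi.add_apply]; ring

/-- Two short lattice vectors congruent modulo twice the lattice are equal, opposite, or orthogonal of norm 64. -/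
theorem congr_short {x y : GolayPt → ℤ} (hy : y ∈ leechLattice)
    (hxn : sqNorm x ≤ 64) (hyn : sqNorm y ≤ 64) (hc : ∃ z ∈ leechLattice, x - y = 2 • z) :
    x = y ∨ x = -y ∨ (sqNorm x = 64 ∧ sqNorm y = 64 ∧ dotInt x y = 0) := by
  obtain ⟨z, hz, hxy⟩ := hc
  by_cases hz0 : z = 0
  · left; rw [hz0, smul_zero] at hxy; exact sub_eq_zero.1 hxy
  by_cases hw0 : z + y = 0
  · right; left
    have : z = -y := eq_neg_of_add_eq_zero_left hw0
    funext i
    have := congrFun hxy i
    simp [‹z = -y›] at this ⊢
    omega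
  right; right
  have hp : x + y = 2 • (z + y) := by rw [smul_add, ← hxy]; funext i; simp; ring
  have e1 := min_norm hz hz0
  have e2 := min_norm (AddSubgroup.add_mem _ hz hy) hw0
  have f1 := sqNorm_sub x y
  have f2 := sqNorm_add x y
  rw [hxy, sqNorm_two_smul] at f1
  rw [hp, sqNorm_two_smul] at f2
  refine ⟨?_, ?_, ?_⟩ <;> omega

end Cfsg.Agent.H94.Leech
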