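import Mathlib
import Cfsg.Agent.H94.Leech
import Cfsg.Prelude.Def_Spor_Conway

/-!
The lattice reduced modulo 13 gives a faithful 24-dimensional representation of its automorphism group;
on the stabiliser of the short vector it restricts faithfully to the 23-dimensional orthogonal complement.
-/

set_option autoImplicit false

namespace Cfsg.Agent.H94.Co2Rep

open Cfsg Cfsg.Agent.H92.Leech Matrix

theorem cond_eight (y : GolayPt → ℤ) : Cond (fun i => 8 * y i) := by
  have h := cond_four (y := fun i => 2 * y i) (by rw [← Finset.mul_sum]; omega)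
  have e : (fun i => 4 * (2 * y i)) = fun i => 8 * y i := funext fun i => by ring
  rwa [e] at h

/-- Eight times an integer vector is in the lattice. -/
def scaled (y : GolayPt → ℤ) : leechLattice := ⟨fun i => 8 * y i, mem_iff.mpr (cond_eight y)⟩

/-- The lattice vectors with a single coordinate 8. -/
def unitVec (j : GolayPt) : leechLattice := scaled (Pi.single j 1)

/-- Reduction modulo 13. -/
def red : leechLattice →+ (GolayPt → ZMod 13) where
  toFun v i := ((v : GolayPt → ℤ) i : ZMod 13)
  map_zero' := by funext i; simp
  map_add' a b := by funext i; simp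

theorem red_apply (v : leechLattice) (i : GolayPt) : red v i = ((v : GolayPt → ℤ) i : ZMod 13) := rfl

theorem eight_smul (v : leechLattice) :
    (8 : ℤ) • v = ∑ j, (v : GolayPt → ℤ) j • unitVec j := by
  apply Subtype.ext
  funext i
  rw [AddSubgroup.val_finset_sum, Finset.sum_apply, Finset.sum_eq_single i]
  · simp [unitVec, scaled, mul_comm]
  · intro j _ hj; simp [unitVec, scaled, Pi.single_apply, Ne.symm hj]
  · simp

/-- An element as an additive map. -/
def hom (g : Co0) : leechLattice →+ leechLattice := AddMonoidHom.mk' (g • ·) g.2.1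

theorem hom_apply (g : Co0) (v : leechLattice) : hom g v = g • v := rfl

/-- The matrix of an element modulo 13. -/
def mat (g : Co0) : Matrix GolayPt GolayPt (ZMod 13) :=
  Matrix.of fun i j => (5 : ZMod 13) * red (g • unitVec j) i

theorem red_smul (g : Co0) (v : leechLattice) : red (g • v) = mat g *ᵥ red v := by
  have h := congrArg (fun w => red (hom g w)) (eight_smul v)
  simp only [map_sum, map_zsmul, hom_apply] at h
  funext i
  have hi := congrFun h i
  simp only [Pi.smul_apply, Finset.sum_apply, Pi.mul_apply, Pi.intCast_apply, zsmul_eq_mul] at hi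
  simp only [mulVec, dotProduct, mat, Matrix.of_apply]
  calc red (g • v) i = 5 * (((8 : ℤ) : ZMod 13) * red (g • v) i) := by
        rw [← mul_assoc, show (5 : ZMod 13) * ((8 : ℤ) : ZMod 13) = 1 by decide, one_mul]
    _ = 5 * ∑ j, (((v : GolayPt → ℤ) j : ℤ) : ZMod 13) * red (g • unitVec j) i := by rw [hi]
    _ = _ := by
        rw [Finset.mul_sum]
        exact Finset.sum_congr rfl fun j _ => by rw [red_apply v j]; ring

theorem red_scaled (y : GolayPt → ℤ) : red (scaled y) = (8 : ZMod 13) • fun i => (y i : ZMod 13) := by
  funext i; simp [red_apply, scaled]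

theorem red_surj (x : GolayPt → ZMod 13) : ∃ v, red v = x := by
  refine ⟨scaled fun i => (((5 : ZMod 13) * x i).val : ℤ), ?_⟩
  funext i
  rw [red_scaled]
  simp [ZMod.natCast_rightInverse ((5 : ZMod 13) * x i), ← mul_assoc,
    show (8 : ZMod 13) * 5 = 1 by decide]

/-- The representation modulo 13. -/
def lin (g : Co0) : (GolayPt → ZMod 13) →ₗ[ZMod 13] (GolayPt → ZMod 13) := Matrix.mulVecLin (mat g)

theorem lin_red (g : Co0) (v : leechLattice) : lin g (red v) = red (g • v) := by
  rw [red_smul]; rfl

theorem lin_one : lin 1 = LinearMap.id := by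
  refine LinearMap.ext fun x => ?_
  obtain ⟨v, rfl⟩ := red_surj x
  rw [lin_red, one_smul]; rfl

theorem lin_mul (g h : Co0) : lin (g * h) = (lin g).comp (lin h) := by
  refine LinearMap.ext fun x => ?_
  obtain ⟨v, rfl⟩ := red_surj x
  rw [lin_red, LinearMap.comp_apply, lin_red, lin_red, mul_smul]

theorem lin_injective {g : Co0} (h : ∀ x, lin g x = x) : g = 1 := by
  have key : ∀ j, g • unitVec j = unitVec j := by
    intro j
    have hred : red (g • unitVec j) = red (unitVec j) := (lin_red g _).symm.trans (h _)
    set d := ((g • unitVec j : leechLattice) : GolayPt → ℤ) - (unitVec j : GolayPt → ℤ) with hd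
    have hdL : d ∈ leechLattice := AddSubgroup.sub_mem _ (g • unitVec j).2 (unitVec j).2
    have h13 : ∀ i, (13 : ℤ) ∣ d i := by
      intro i
      have := congrFun hred i
      rw [red_apply, red_apply, ← sub_eq_zero, ← Int.cast_sub,
        ZMod.intCast_zmod_eq_zero_iff_dvd] at this
      simpa [hd] using this
    choose w hw using h13
    have hwL : w ∈ leechLattice := by
      have e : w = (5 : ℤ) • (fun i => 8 * w i) - (3 : ℤ) • d := by
        funext i
        simp only [Pi.sub_apply, Pi.smul_apply, smul_eq_mul, hw]
        ring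
      rw [e]
      exact AddSubgroup.sub_mem _ (AddSubgroup.zsmul_mem _ (mem_iff.mpr (cond_eight w)) 5)
        (AddSubgroup.zsmul_mem _ hdL 3)
    have hN : ∀ a : leechLattice, sqNorm ((g • a : leechLattice) : GolayPt → ℤ) =
        sqNorm (a : GolayPt → ℤ) := g.2.2
    have h64 : sqNorm (unitVec j : GolayPt → ℤ) = 64 := by
      simp [sqNorm, unitVec, scaled, Pi.single_apply]
    have hdn : sqNorm d ≤ 256 := by
      have hle : sqNorm d ≤ 2 * sqNorm ((g • unitVec j : leechLattice) : GolayPt → ℤ) +
          2 * sqNorm (unitVec j : GolayPt → ℤ) := by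
        simp only [hd, sqNorm, Finset.mul_sum, ← Finset.sum_add_distrib, Pi.sub_apply]
        exact Finset.sum_le_sum fun i _ => by
          nlinarith [sq_nonneg (((g • unitVec j : leechLattice) : GolayPt → ℤ) i +
            (unitVec j : GolayPt → ℤ) i)]
      rw [hN, h64] at hle
      omega
    have hw169 : sqNorm d = 169 * sqNorm w := by
      simp only [sqNorm, Finset.mul_sum, hw]
      exact Finset.sum_congr rfl fun i _ => by ring
    have hw0 : w = 0 := by
      by_contra hne
      have := Leech.min_norm hwL hne
      omega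
    apply Subtype.ext
    funext i
    have := hw i
    rw [hw0] at this
    simpa [hd, sub_eq_zero] using this
  apply Subtype.ext
  apply Equiv.ext
  intro v
  show g • v = v
  have h8 : (8 : ℤ) • (g • v) = (8 : ℤ) • v := by
    have := congrArg (hom g) (eight_smul v)
    simp only [map_sum, map_zsmul, hom_apply, key] at this
    rw [this, eight_smul]
  apply Subtype.ext
  funext i
  have := congrFun (congrArg Subtype.val h8) i
  simpa using this

/-! ### The complement of the short vector -/

/-- An element of the stabiliser as an automorphism of the lattice. -/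
def toCo0 : Spor.Co2 →* Co0 := Subgroup.inclusion inf_le_left

theorem toCo0_fix (g : Spor.Co2) : toCo0 g • Spor.leechU = Spor.leechU :=
  MulAction.mem_stabilizer_iff.1 g.2.2

theorem dotU (x : GolayPt → ℤ) : dotInt x Spor.vecU = 4 * x none + 4 * x (some 0) := by
  rw [dotInt, ← Finset.sum_subset (Finset.subset_univ ({none, some 0} : Finset GolayPt))]
  · rw [Finset.sum_insert (by simp), Finset.sum_singleton]
    simp [Spor.vecU]
    ring
  · intro p _ hp
    simp only [Finset.mem_insert, Finset.mem_singleton] at hp
    simp [Spor.vecU, hp]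

/-- The functional given by the short vector. -/
def ell (x : GolayPt → ZMod 13) : ZMod 13 := x none + x (some 0)

theorem ell_preserved (g : Spor.Co2) (x : GolayPt → ZMod 13) : ell (lin (toCo0 g) x) = ell x := by
  obtain ⟨v, rfl⟩ := red_surj x
  rw [lin_red]
  have hN : ∀ a : leechLattice, sqNorm ((toCo0 g • a : leechLattice) : GolayPt → ℤ) =
      sqNorm (a : GolayPt → ℤ) := (toCo0 g).2.2
  have h := hN (v + Spor.leechU)
  rw [← hom_apply, map_add, hom_apply, hom_apply, toCo0_fix, AddSubgroup.coe_add,
    AddSubgroup.coe_add, Leech.sqNorm_add, Leech.sqNorm_add, hN] at h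
  simp only [Spor.leechU, dotU] at h
  simp only [ell, red_apply]
  rw [← Int.cast_add, ← Int.cast_add]
  congr 1
  omega

/-- Inclusion of the complement. -/
def incl : (ZMod 23 → ZMod 13) →ₗ[ZMod 13] (GolayPt → ZMod 13) where
  toFun x p := Option.elim p (-x 0) x
  map_add' a b := by funext p; cases p <;> simp [add_comm]
  map_smul' c a := by funext p; cases p <;> simp

/-- Projection to the complement. -/
def proj : (GolayPt → ZMod 13) →ₗ[ZMod 13] (ZMod 23 → ZMod 13) :=
  LinearMap.funLeft _ _ some

theorem incl_proj {x : GolayPt → ZMod 13} (h : ell x = 0) : incl (proj x) = x := by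
  funext p
  cases p with
  | none => exact (eq_neg_of_add_eq_zero_left h).symm
  | some k => rfl

theorem ell_incl (x : ZMod 23 → ZMod 13) : ell (incl x) = 0 := by simp [ell, incl]

/-- The 23-dimensional representation. -/
def rep : Spor.Co2 →* Module.End (ZMod 13) (ZMod 23 → ZMod 13) where
  toFun g := proj ∘ₗ lin (toCo0 g) ∘ₗ incl
  map_one' := by rw [map_one, lin_one]; rfl
  map_mul' g h := by
    rw [map_mul, lin_mul]
    refine LinearMap.ext fun x => ?_
    simp only [LinearMap.comp_apply, Module.End.mul_apply]
    rw [incl_proj (by rw [ell_preserved, ell_incl])]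

theorem rep_injective {g : Spor.Co2} (h : rep g = 1) : g = 1 := by
  have h1 : ∀ x, ell x = 0 → lin (toCo0 g) x = x := by
    intro x hx
    have e := congrArg incl (LinearMap.congr_fun h (proj x))
    simp only [rep, MonoidHom.coe_mk, OneHom.coe_mk, LinearMap.comp_apply, Module.End.one_apply,
      incl_proj hx] at e
    rwa [incl_proj (by rw [ell_preserved, hx])] at e
  have hu : lin (toCo0 g) (red Spor.leechU) = red Spor.leechU := by rw [lin_red, toCo0_fix]
  have hlu : ell (red Spor.leechU) = 8 := by
    simp [ell, red_apply, Spor.leechU, Spor.vecU]; decide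
  have hall : ∀ x, lin (toCo0 g) x = x := by
    intro x
    set c : ZMod 13 := 5 * ell x with hc
    have e0 : ell (x - c • red Spor.leechU) = 0 := by
      have : ell (x - c • red Spor.leechU) = ell x - c * ell (red Spor.leechU) := by
        simp [ell]; ring
      rw [this, hlu, hc, mul_right_comm, show (5 : ZMod 13) * 8 = 1 by decide, one_mul, sub_self]
    have := h1 _ e0
    rw [map_sub, map_smul, hu] at this
    exact sub_left_injective this
  have := lin_injective hall
  apply Subtype.ext
  exact congrArg (fun t : Co0 => (t : Equiv.Perm leechLattice)) this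

/-- The representation by matrices indexed by `Fin 23`. -/
noncomputable def repMatrix : Spor.Co2 →* Matrix (Fin 23) (Fin 23) (ZMod 13) :=
  ((Matrix.reindexAlgEquiv (ZMod 13) (ZMod 13) (ZMod.finEquiv 23).toEquiv.symm).toMulEquiv.toMonoidHom).comp
    ((LinearMap.toMatrixAlgEquiv' (R := ZMod 13) (n := ZMod 23)).toMulEquiv.toMonoidHom.comp rep)

theorem repMatrix_eq_one {g : Spor.Co2} (h : repMatrix g = 1) : g = 1 := by
  apply rep_injective
  rw [repMatrix] at h
  simp only [MonoidHom.comp_apply, MulEquiv.coe_toMonoidHom] at h
  rw [MulEquiv.map_eq_one_iff, MulEquiv.map_eq_one_iff] at h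
  exact h

/-- Faithful representation of degree 23 modulo 13. -/
theorem exists_embedding : ∃ f : ↥Spor.Co2 →* GL (Fin 23) (ZMod 13), Function.Injective f := by
  refine ⟨repMatrix.toHomUnits, fun a b hab => ?_⟩
  have h : repMatrix a = repMatrix b := by
    have h' := congrArg (fun u : GL (Fin 23) (ZMod 13) => (u : Matrix (Fin 23) (Fin 23) (ZMod 13))) hab
    simpa only [MonoidHom.coe_toHomUnits] using h'
  rw [← mul_inv_eq_one]
  apply repMatrix_eq_one
  rw [map_mul, h, ← map_mul, mul_inv_cancel, map_one]

end Cfsg.Agent.H94.Co2Rep
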