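import Mathlib
import Cfsg.Agent.Cores.PCore
import Cfsg.Agent.PGroups.Basic
import Cfsg.Prelude.Def_Transfer

/-!
Involutions `z` whose centralizer has an extraspecial largest normal 2-subgroup containing its own
centralizer: orthogonality of the conjugates of `z` and singular subgroups.
-/

set_option autoImplicit false

open Cfsg
open scoped commutatorElement

namespace Cfsg.Agent.H94.LargeExtra

variable {G : Type*} [Group G]

/-- The largest normal 2-subgroup of the centralizer of `x`, in the ambient group. -/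
def coreAt (x : G) : Subgroup G :=
  (pCore 2 ↥(Subgroup.centralizer ({x} : Set G))).map (Subgroup.centralizer ({x} : Set G)).subtype

theorem mem_cent {x g : G} : g ∈ Subgroup.centralizer ({x} : Set G) ↔ x * g = g * x :=
  Subgroup.mem_centralizer_singleton_iff.trans eq_comm

theorem coreAt_le (x : G) : coreAt x ≤ Subgroup.centralizer ({x} : Set G) :=
  Subgroup.map_subtype_le _

theorem coreAt_comm {x q : G} (hq : q ∈ coreAt x) : x * q = q * x := mem_cent.1 (coreAt_le x hq)

theorem map_cent (g x : G) : (Subgroup.centralizer ({x} : Set G)).map (MulAut.conj g).toMonoidHom =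
    Subgroup.centralizer ({g * x * g⁻¹} : Set G) := by
  ext y
  simp only [Subgroup.mem_map, MulEquiv.coe_toMonoidHom, MulAut.conj_apply, mem_cent]
  constructor
  · rintro ⟨w, hw, rfl⟩
    calc g * x * g⁻¹ * (g * w * g⁻¹) = g * (x * w) * g⁻¹ := by group
      _ = g * (w * x) * g⁻¹ := by rw [hw]
      _ = g * w * g⁻¹ * (g * x * g⁻¹) := by group
  · intro h
    refine ⟨g⁻¹ * y * g, ?_, by group⟩
    calc x * (g⁻¹ * y * g) = g⁻¹ * (g * x * g⁻¹ * y) * g := by group
      _ = g⁻¹ * (y * (g * x * g⁻¹)) * g := by rw [h]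
      _ = g⁻¹ * y * g * x := by group

theorem coreAt_conj (g x : G) :
    coreAt (g * x * g⁻¹) = (coreAt x).map (MulAut.conj g).toMonoidHom := by
  let e : ↥(Subgroup.centralizer ({x} : Set G)) ≃* ↥(Subgroup.centralizer ({g * x * g⁻¹} : Set G)) :=
    ((MulAut.conj g).subgroupMap (Subgroup.centralizer ({x} : Set G))).trans
      (MulEquiv.subgroupCongr (map_cent g x))
  rw [coreAt, coreAt, ← Cores.pCore_map_mulEquiv e, Subgroup.map_map, Subgroup.map_map]
  rfl

theorem mem_coreAt_conj {g x y : G} : y ∈ coreAt (g * x * g⁻¹) ↔ g⁻¹ * y * g ∈ coreAt x := by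
  rw [coreAt_conj, Subgroup.mem_map_equiv]
  simp

theorem conj_mem_coreAt {g x y : G} (hy : y ∈ coreAt x) : g * y * g⁻¹ ∈ coreAt (g * x * g⁻¹) := by
  rw [mem_coreAt_conj]
  simpa [mul_assoc] using hy

theorem conj_mem_of_cent {x g y : G} (hg : x * g = g * x) (hy : y ∈ coreAt x) :
    g * y * g⁻¹ ∈ coreAt x := by
  have h := conj_mem_coreAt (g := g) hy
  rwa [show g * x * g⁻¹ = x by rw [← hg]; group] at h

/-- An involution `z` whose core is self-centralizing, with centre `{1, z}` containing all commutators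
and squares of the core. -/
structure IsLarge (z : G) : Prop where
  order : orderOf z = 2
  center_cases : ∀ {y : G}, y ∈ coreAt z → (∀ q ∈ coreAt z, q * y = y * q) → y = 1 ∨ y = z
  conj_cases : ∀ {a b : G}, a ∈ coreAt z → b ∈ coreAt z → a * b * a⁻¹ = b ∨ a * b * a⁻¹ = z * b
  sq_cases : ∀ {a : G}, a ∈ coreAt z → a * a = 1 ∨ a * a = z
  self_cent : Subgroup.centralizer ((coreAt z : Subgroup G) : Set G) ≤ coreAt z
  isPGroup : IsPGroup 2 ↥(coreAt z)

/-- An extraspecial core containing its centralizer gives these properties. -/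
theorem IsLarge.of_extraspecial [Finite G] {z : G} (hz : orderOf z = 2)
    (hE : IsExtraspecial 2 ↥(coreAt z))
    (hC : Subgroup.centralizer ((coreAt z : Subgroup G) : Set G) ≤ coreAt z) : IsLarge z := by
  have hne : z ≠ 1 := fun e => by rw [e, orderOf_one] at hz; omega
  have hmem : z ∈ coreAt z := hC (fun q hq => (coreAt_comm (SetLike.mem_coe.1 hq)).symm)
  have hcen : ∀ {y : G}, y ∈ coreAt z → (∀ q ∈ coreAt z, q * y = y * q) → y = 1 ∨ y = z := by
    intro y hy hc
    by_contra hn
    push_neg at hn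
    have hmc : ∀ {w : G} (hw : w ∈ coreAt z), (∀ q ∈ coreAt z, q * w = w * q) →
        (⟨w, hw⟩ : ↥(coreAt z)) ∈ Subgroup.center ↥(coreAt z) := fun hw hcw =>
      Subgroup.mem_center_iff.2 fun q => Subtype.ext (hcw q.1 q.2)
    obtain ⟨a, b, -, hu⟩ := Nat.card_eq_two_iff.1 hE.2
    have h1 : (⟨_, hmc hmem fun q hq => (coreAt_comm hq).symm⟩ :
        Subgroup.center ↥(coreAt z)) ∈ ({a, b} : Set _) := hu ▸ Set.mem_univ _
    have h2 : (⟨_, hmc hy hc⟩ : Subgroup.center ↥(coreAt z)) ∈ ({a, b} : Set _) := hu ▸ Set.mem_univ _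
    have h3 : (1 : Subgroup.center ↥(coreAt z)) ∈ ({a, b} : Set _) := hu ▸ Set.mem_univ _
    simp only [Set.mem_insert_iff, Set.mem_singleton_iff] at h1 h2 h3
    rcases h1 with e1 | e1 <;> rcases h2 with e2 | e2 <;> rcases h3 with e3 | e3 <;>
      first
        | (have e := congrArg Subtype.val (congrArg Subtype.val (e2.trans e1.symm))
           exact hn.2 e)
        | (have e := congrArg Subtype.val (congrArg Subtype.val (e2.trans e3.symm))
           exact hn.1 e)
        | (have e := congrArg Subtype.val (congrArg Subtype.val (e1.trans e3.symm))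
           exact hne e)
  have hin : ∀ {w : ↥(coreAt z)}, w ∈ Subgroup.center ↥(coreAt z) → (w : G) = 1 ∨ (w : G) = z :=
    fun {w} hw => hcen w.2 fun q hq => congrArg Subtype.val (Subgroup.mem_center_iff.1 hw ⟨q, hq⟩)
  refine ⟨hz, hcen, ?_, ?_, hC, hE.1.1⟩
  · intro a b ha hb
    have hc : ⁅(⟨a, ha⟩ : ↥(coreAt z)), (⟨b, hb⟩ : ↥(coreAt z))⁆ ∈ Subgroup.center ↥(coreAt z) := by
      rw [← hE.1.2.2, commutator_def]
      exact Subgroup.commutator_mem_commutator (Subgroup.mem_top _) (Subgroup.mem_top _)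
    rcases hin hc with e | e
    · exact Or.inl (mul_inv_eq_one.1 e)
    · exact Or.inr (mul_inv_eq_iff_eq_mul.1 e)
  · intro a ha
    haveI : Fact (Nat.Prime 2) := ⟨Nat.prime_two⟩
    have hc : (⟨a, ha⟩ : ↥(coreAt z)) ^ 2 ∈ Subgroup.center ↥(coreAt z) :=
      hE.1.2.1 ▸ PGroups.pow_mem_frattini hE.1.1 _
    simpa [pow_two] using hin hc

theorem IsLarge.conj {z : G} (h : IsLarge z) (g : G) : IsLarge (g * z * g⁻¹) := by
  have hpull : ∀ {y : G}, y ∈ coreAt (g * z * g⁻¹) → g⁻¹ * y * g ∈ coreAt z := fun hy => mem_coreAt_conj.1 hy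
  refine ⟨?_, ?_, ?_, ?_, ?_, ?_⟩
  · rw [← h.order]
    exact orderOf_injective (MulAut.conj g).toMonoidHom (MulAut.conj g).injective z
  · intro y hy hc
    rcases h.center_cases (hpull hy) (fun q hq => by
      have := hc (g * q * g⁻¹) (conj_mem_coreAt hq)
      calc q * (g⁻¹ * y * g) = g⁻¹ * (g * q * g⁻¹ * y) * g := by group
        _ = g⁻¹ * (y * (g * q * g⁻¹)) * g := by rw [this]
        _ = g⁻¹ * y * g * q := by group) with e | e
    · left
      calc y = g * (g⁻¹ * y * g) * g⁻¹ := by group
        _ = 1 := by rw [e]; group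
    · right
      calc y = g * (g⁻¹ * y * g) * g⁻¹ := by group
        _ = _ := by rw [e]
  · intro a b ha hb
    have e0 : a * b * a⁻¹ = g * (g⁻¹ * a * g * (g⁻¹ * b * g) * (g⁻¹ * a * g)⁻¹) * g⁻¹ := by group
    rcases h.conj_cases (hpull ha) (hpull hb) with e | e <;> rw [e0, e]
    · exact Or.inl (by group)
    · exact Or.inr (by group)
  · intro a ha
    have e0 : a * a = g * (g⁻¹ * a * g * (g⁻¹ * a * g)) * g⁻¹ := by group
    rcases h.sq_cases (hpull ha) with e | e <;> rw [e0, e]
    · exact Or.inl (by group)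
    · exact Or.inr rfl
  · intro y hy
    rw [mem_coreAt_conj]
    apply h.self_cent
    intro q hq
    have := hy (g * q * g⁻¹) (conj_mem_coreAt (SetLike.mem_coe.1 hq))
    calc q * (g⁻¹ * y * g) = g⁻¹ * (g * q * g⁻¹ * y) * g := by group
      _ = g⁻¹ * (y * (g * q * g⁻¹)) * g := by rw [this]
      _ = g⁻¹ * y * g * q := by group
  · rw [coreAt_conj]
    exact h.isPGroup.map _

namespace IsLarge

variable {z : G} (h : IsLarge z)
include h

theorem mul_self : z * z = 1 := by rw [← pow_two, ← h.order, pow_orderOf_eq_one]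

theorem ne_one : z ≠ 1 := fun e => by
  have := h.order
  rw [e, orderOf_one] at this
  omega

theorem mem_self : z ∈ coreAt z :=
  h.self_cent (fun q hq => (coreAt_comm (SetLike.mem_coe.1 hq)).symm)

theorem mul_cases {a b : G} (ha : a ∈ coreAt z) (hb : b ∈ coreAt z) :
    a * b = b * a ∨ a * b = z * (b * a) := by
  rcases h.conj_cases ha hb with e | e <;> rw [mul_inv_eq_iff_eq_mul] at e
  · exact Or.inl e
  · exact Or.inr (e.trans (mul_assoc _ _ _))

theorem inv_eq : z⁻¹ = z := inv_eq_of_mul_eq_one_right h.mul_self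

end IsLarge

/-- Double centralizer property inside an extraspecial group. -/
theorem IsLarge.double_centralizer {z : G} (h : IsLarge z) (L : Set G) (hfin : L.Finite)
    (hL : L ⊆ coreAt z) {y : G} (hy : y ∈ coreAt z)
    (hc : ∀ q ∈ coreAt z, (∀ l ∈ L, q * l = l * q) → q * y = y * q) :
    y ∈ Subgroup.closure (insert z L) := by
  induction L, hfin using Set.Finite.induction_on generalizing y with
  | empty =>
    rcases h.center_cases hy (fun q hq => hc q hq (by simp)) with rfl | rfl
    · exact one_mem _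
    · exact Subgroup.subset_closure (by simp)
  | @insert f L hf _ ih =>
    have hfQ : f ∈ coreAt z := hL (Set.mem_insert _ _)
    have hLQ : L ⊆ coreAt z := (Set.subset_insert _ _).trans hL
    have hmono : Subgroup.closure (insert z L) ≤ Subgroup.closure (insert z (insert f L)) :=
      Subgroup.closure_mono (Set.insert_subset_insert (Set.subset_insert _ _))
    have hf' : f ∈ Subgroup.closure (insert z (insert f L)) :=
      Subgroup.subset_closure (Set.mem_insert_of_mem _ (Set.mem_insert _ _))
    by_cases hall : ∀ q ∈ coreAt z, (∀ l ∈ L, q * l = l * q) → q * y = y * q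
    · exact hmono (ih hLQ hy hall)
    push_neg at hall
    obtain ⟨s, hs, hsL, hsy⟩ := hall
    have key : ∀ q ∈ coreAt z, ∀ w ∈ coreAt z, q * w ≠ w * q → q * w = z * (w * q) := by
      intro q hq w hw hne
      rcases h.conj_cases hq hw with e | e
      · exact absurd (mul_inv_eq_iff_eq_mul.1 e) hne
      · rw [mul_inv_eq_iff_eq_mul.1 e, mul_assoc]
    have hz : ∀ q ∈ coreAt z, z * q = q * z := fun q hq => coreAt_comm hq
    have hsf : s * f ≠ f * s := fun e => hsy (hc s hs (by
      rintro l (rfl | hl)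
      · exact e
      · exact hsL l hl))
    have hyf : y * f ∈ Subgroup.closure (insert z L) := by
      refine ih hLQ (Subgroup.mul_mem _ hy hfQ) fun q hq hqL => ?_
      by_cases hqf : q * f = f * q
      · have hqy : q * y = y * q := hc q hq (by
          rintro l (rfl | hl)
          · exact hqf
          · exact hqL l hl)
        rw [← mul_assoc, hqy, mul_assoc, hqf, ← mul_assoc]
      · -- `q * s` commutes with `f`
        have e1 : q * s * f = f * (q * s) := by
          rw [mul_assoc, key s hs f hfQ hsf, ← mul_assoc, ← hz q hq, mul_assoc, ← mul_assoc q f s,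
            key q hq f hfQ hqf, mul_assoc z, ← mul_assoc z z, h.mul_self, one_mul, mul_assoc]
        have e2 : q * s * y = y * (q * s) := hc (q * s) (Subgroup.mul_mem _ hq hs) (by
          rintro l (rfl | hl)
          · exact e1
          · rw [mul_assoc, hsL l hl, ← mul_assoc, hqL l hl, mul_assoc])
        have hqy : q * y = z * (y * q) := by
          have : q * s * y = z * (q * y * s) := by
            rw [mul_assoc, key s hs y hy hsy, ← mul_assoc, ← hz q hq, mul_assoc, mul_assoc q y s]
          rw [this] at e2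
          apply mul_right_cancel (b := s)
          rw [mul_assoc z (y * q) s, mul_assoc y q s, ← e2, ← mul_assoc z z, h.mul_self, one_mul]
        rw [← mul_assoc, hqy, mul_assoc z, mul_assoc y q f, key q hq f hfQ hqf, ← mul_assoc y z,
          ← hz y hy, mul_assoc z y, ← mul_assoc z z, h.mul_self, one_mul, mul_assoc]
    have := Subgroup.mul_mem _ (hmono hyf) (Subgroup.inv_mem _ hf')
    rwa [mul_inv_cancel_right] at this

/-- The members of the closure of two commuting involutions. -/
theorem closure_pair {z x a : G} (hz : z * z = 1) (hx : x * x = 1) (hzx : z * x = x * z)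
    (ha : a ∈ Subgroup.closure (insert z ({x} : Set G))) : a = 1 ∨ a = z ∨ a = x ∨ a = z * x := by
  induction ha using Subgroup.closure_induction with
  | mem w hw => rcases hw with rfl | rfl <;> simp
  | one => simp
  | mul a b _ _ ha hb =>
    have hzz : ∀ t, z * (z * t) = t := fun t => by rw [← mul_assoc, hz, one_mul]
    have hxx : ∀ t, x * (x * t) = t := fun t => by rw [← mul_assoc, hx, one_mul]
    have hxz : ∀ t, x * (z * t) = z * (x * t) := fun t => by rw [← mul_assoc, ← hzx, mul_assoc]
    rcases ha with rfl | rfl | rfl | rfl <;> rcases hb with rfl | rfl | rfl | rfl <;>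
      simp [hz, hx, hzz, hxx, hxz, hzx.symm, mul_assoc]
  | inv a _ ha =>
    have hzi : z⁻¹ = z := inv_eq_of_mul_eq_one_right hz
    have hxi : x⁻¹ = x := inv_eq_of_mul_eq_one_right hx
    rcases ha with rfl | rfl | rfl | rfl <;> simp [hzi, hxi, ← hzx]

theorem eq_of_twist {k y d : G} (hd : d * d = 1) (hkd : k * d = d * k)
    (hy : k * y * k⁻¹ = d * y) (hodd : Odd (orderOf k)) : d = 1 := by
  have hit : ∀ n : ℕ, k ^ n * y * (k ^ n)⁻¹ = d ^ n * y := by
    intro n
    induction n with
    | zero => simp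
    | succ n ih =>
      have hc : k * d ^ n * k⁻¹ = d ^ n := by
        rw [Commute.eq (Commute.pow_right hkd n), mul_inv_cancel_right]
      calc k ^ (n + 1) * y * (k ^ (n + 1))⁻¹ = k * (k ^ n * y * (k ^ n)⁻¹) * k⁻¹ := by
            rw [pow_succ' k]; group
        _ = k * d ^ n * k⁻¹ * (k * y * k⁻¹) := by rw [ih]; group
        _ = d ^ (n + 1) * y := by rw [hc, hy, pow_succ, mul_assoc]
  have h1 := hit (orderOf k)
  rw [pow_orderOf_eq_one, one_mul, inv_one, mul_one] at h1
  have h2 : d ^ orderOf k = 1 := mul_eq_right.1 h1.symm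
  obtain ⟨m, hm⟩ := hodd
  rwa [hm, pow_succ, pow_mul, pow_two, hd, one_pow, one_mul] at h2

section Symmetric

variable [Finite G]

/-- When the elements of the core commuting with a non-central involution of the core form an
abelian group, the centralizer of `z` is a 2-group, so it equals the core. -/
theorem IsLarge.cent_le_of_small {z x : G} (h : IsLarge z) (hx : x ∈ coreAt z) (hx2 : x * x = 1)
    (hxz : x ≠ z) (hx1 : x ≠ 1)
    (hab : ∀ a ∈ coreAt z, a * x = x * a → ∀ b ∈ coreAt z, b * x = x * b → a * b = b * a) :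
    Subgroup.centralizer ({z} : Set G) = coreAt z := by
  have hz : ∀ q ∈ coreAt z, z * q = q * z := fun q hq => coreAt_comm hq
  have hcx : ∀ a ∈ coreAt z, a * x = x * a → a = 1 ∨ a = z ∨ a = x ∨ a = z * x := fun a ha hax =>
    closure_pair h.mul_self hx2 (hz x hx)
      (h.double_centralizer {x} (Set.finite_singleton x) (by simpa using hx) ha
        (fun w hw hwl => hab w hw (hwl x rfl) a ha hax))
  -- an element outside the centralizer of `x`, times another, commutes with `x`
  have hdiv : ∀ a ∈ coreAt z, ∀ b ∈ coreAt z, a * x ≠ x * a → b * x ≠ x * b →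
      a * b⁻¹ = 1 ∨ a * b⁻¹ = z ∨ a * b⁻¹ = x ∨ a * b⁻¹ = z * x := by
    intro a ha b hb hax hbx
    apply hcx _ (Subgroup.mul_mem _ ha (Subgroup.inv_mem _ hb))
    have e1 := (h.mul_cases ha hx).resolve_left hax
    have e3 := (h.mul_cases (Subgroup.inv_mem _ hb) hx).resolve_left (fun e => hbx (by
      calc b * x = b * (x * b⁻¹) * b := by group
        _ = b * (b⁻¹ * x) * b := by rw [e]
        _ = x * b := by group))
    rw [mul_assoc, e3, ← mul_assoc, ← hz a ha, mul_assoc z, ← mul_assoc a x, e1,
      ← mul_assoc z, ← mul_assoc z z, h.mul_self, one_mul, mul_assoc]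
  -- elements of odd order centralize the core
  have hodd : ∀ k, z * k = k * z → Odd (orderOf k) → k = 1 := by
    intro k hkz hk
    have hkzz : k * z * k⁻¹ = z := by rw [← hkz, mul_inv_cancel_right]
    have hkx : k * x = x * k := by
      have hy : k * x * k⁻¹ ∈ coreAt z := conj_mem_of_cent hkz hx
      by_cases hyx : k * x * k⁻¹ * x = x * (k * x * k⁻¹)
      · rcases hcx _ hy hyx with e | e | e | e
        · exact absurd (by simpa using e) hx1
        · exact absurd (by
            calc x = k⁻¹ * (k * x * k⁻¹) * k := by group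
              _ = k⁻¹ * (z * k) := by rw [e]; group
              _ = z := by rw [hkz, inv_mul_cancel_left]) hxz
        · exact mul_inv_eq_iff_eq_mul.1 e
        · exact absurd (eq_of_twist h.mul_self hkz.symm e hk) h.ne_one
      · exfalso
        set y := k * x * k⁻¹ with hydef
        have hyy : y * y = 1 := by
          rw [hydef, show k * x * k⁻¹ * (k * x * k⁻¹) = k * (x * x) * k⁻¹ by group, hx2]; group
        have hxy : y * x = z * (x * y) := (h.mul_cases hy hx).resolve_left hyx
        set w := k * y * k⁻¹ with hwdef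
        have hw : w ∈ coreAt z := conj_mem_of_cent hkz hy
        have hww : w * w = 1 := by
          rw [hwdef, show k * y * k⁻¹ * (k * y * k⁻¹) = k * (y * y) * k⁻¹ by group, hyy]; group
        have hwy : ¬ w * y = y * w := by
          intro e
          apply hyx
          have := congrArg (fun t => k⁻¹ * t * k) e
          simp only [hwdef] at this
          calc y * x = k⁻¹ * (k * y * k⁻¹ * (k * x * k⁻¹)) * k := by group
            _ = k⁻¹ * (k * x * k⁻¹ * (k * y * k⁻¹)) * k := this
            _ = x * y := by group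
        -- `w` is neither in the centralizer of `x` nor a multiple of `y` by an element of it
        by_cases hwx : w * x = x * w
        · rcases hcx _ hw hwx with e | e | e | e
          · exact hwy (by rw [e]; simp)
          · exact hwy (by rw [e]; exact hz y hy)
          all_goals
            have e' : k * y * k⁻¹ = w := hwdef.symm
            have hback : y = k⁻¹ * w * k := by rw [hwdef]; group
            apply hyx
            -- then `k * k` maps `x` into the pair of `x`
            have h2 : k ^ 2 * x * (k ^ 2)⁻¹ = w := by rw [hwdef, hydef, pow_two]; group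
            have hk2 : Odd (orderOf (k ^ 2)) := by
              rw [Nat.Coprime.orderOf_pow (hk.coprime_two_right)]; exact hk
            have hfix : k ^ 2 * x = x * k ^ 2 := by
              rw [e] at h2
              first
                | exact mul_inv_eq_iff_eq_mul.1 h2
                | exact absurd (eq_of_twist h.mul_self
                    (Commute.eq (Commute.pow_left hkz.symm 2)) h2 hk2) h.ne_one
            obtain ⟨m, hm⟩ := hk
            have hkm : (k ^ 2) ^ (m + 1) = k := by
              rw [← pow_mul, show 2 * (m + 1) = orderOf k + 1 by omega, pow_succ, pow_orderOf_eq_one,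
                one_mul]
            have hkx : k * x = x * k := by
              have := (Commute.pow_left (show Commute (k ^ 2) x from hfix) (m + 1)).eq
              rwa [hkm] at this
            rw [hydef, hkx, mul_inv_cancel_right]
        · rcases hdiv w hw y hy hwx hyx with e | e | e | e <;> rw [mul_inv_eq_iff_eq_mul] at e
          · exact hwy (by rw [e, one_mul])
          · exact hwy (by rw [e, ← mul_assoc y z y, ← hz y hy])
          all_goals
            apply h.ne_one
            rw [← hww, e]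
            simp only [mul_assoc]
            first
              | (rw [← mul_assoc y x y, hxy]
                 simp only [mul_assoc, hyy, mul_one]
                 rw [← mul_assoc x z x, ← hz x hx, mul_assoc, hx2, mul_one])
              | (rw [← mul_assoc x y (z * (x * y)), ← mul_assoc (x * y) z,
                   ← hz (x * y) (Subgroup.mul_mem _ hx hy), mul_assoc z (x * y), ← mul_assoc z z,
                   h.mul_self, one_mul, mul_assoc x y (x * y), ← mul_assoc y x y, hxy]
                 simp only [mul_assoc, hyy, mul_one]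
                 rw [← mul_assoc x z x, ← hz x hx, mul_assoc, hx2, mul_one])
    -- fixing `x`, it fixes everything
    have hfixA : ∀ d, d = 1 ∨ d = z ∨ d = x ∨ d = z * x → k * d = d * k := by
      rintro d (rfl | rfl | rfl | rfl)
      · simp
      · exact hkz.symm
      · exact hkx
      · rw [← mul_assoc, ← hkz, mul_assoc, hkx, mul_assoc]
    have hall : ∀ a ∈ coreAt z, a * k = k * a := by
      intro a ha
      by_cases hax : a * x = x * a
      · exact (hfixA a (hcx a ha hax)).symm
      have hm := conj_mem_of_cent hkz ha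
      have hmx : ¬ k * a * k⁻¹ * x = x * (k * a * k⁻¹) := by
        intro e
        apply hax
        calc a * x = k⁻¹ * (k * a * k⁻¹ * x) * k := by
              rw [show k⁻¹ * (k * a * k⁻¹ * x) * k = a * (k⁻¹ * (x * k)) by group, ← hkx,
                inv_mul_cancel_left]
          _ = k⁻¹ * (x * (k * a * k⁻¹)) * k := by rw [e]
          _ = x * a := by
              rw [show k⁻¹ * (x * (k * a * k⁻¹)) * k = k⁻¹ * (x * k) * a by group, ← hkx,
                inv_mul_cancel_left]
      set d := k * a * k⁻¹ * a⁻¹ with hddef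
      have hd := hdiv _ hm a ha hmx hax
      have hd2 : d * d = 1 := by
        rcases hd with e | e | e | e <;> rw [hddef, e]
        · simp
        · exact h.mul_self
        · exact hx2
        · rw [mul_assoc, ← mul_assoc x z x, ← hz x hx, mul_assoc z x x, hx2, mul_one, h.mul_self]
      have hd1 := eq_of_twist hd2 (hfixA d hd) (y := a) (by rw [hddef]; group) hk
      rw [hddef, mul_inv_eq_one, mul_inv_eq_iff_eq_mul] at hd1
      exact hd1.symm
    have hmem : k ∈ coreAt z := h.self_cent (fun a ha => hall a (SetLike.mem_coe.1 ha))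
    obtain ⟨n, hn⟩ := h.isPGroup ⟨k, hmem⟩
    have hn' : k ^ 2 ^ n = 1 := congrArg Subtype.val hn
    obtain ⟨i, _, hi⟩ := (Nat.dvd_prime_pow Nat.prime_two).1 (orderOf_dvd_of_pow_eq_one hn')
    rcases Nat.eq_zero_or_pos i with hi0 | hi0
    · rw [hi0, pow_zero] at hi
      exact orderOf_eq_one_iff.1 hi
    · rw [hi, Nat.odd_pow_iff (by omega)] at hk
      exact absurd hk (by decide)
  refine le_antisymm (fun k hk => ?_) (coreAt_le z)
  have hpg : IsPGroup 2 ↥(Subgroup.centralizer ({z} : Set G)) := by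
    rintro ⟨j, hj⟩
    obtain ⟨a, m, hm, hjm⟩ := Nat.exists_eq_pow_mul_and_not_dvd (orderOf_pos j).ne' 2 (by norm_num)
    refine ⟨a, Subtype.ext ?_⟩
    rw [SubmonoidClass.coe_pow, Subgroup.coe_one]
    apply hodd _ (Commute.eq (Commute.pow_right (mem_cent.1 hj) _))
    rw [orderOf_pow' _ (by positivity), hjm, Nat.gcd_eq_right (Dvd.intro m rfl),
      Nat.mul_div_cancel_left _ (by positivity)]
    exact Nat.not_even_iff_odd.1 (fun e => hm e.two_dvd)
  refine ⟨⟨k, hk⟩, ?_, rfl⟩
  rw [SetLike.mem_coe, Cores.pCore_eq_top_iff.2 hpg]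
  trivial

/-- Orthogonality of conjugates of `z` is symmetric. -/
theorem IsLarge.symm {z : G} (h : IsLarge z) (g : G) (hx : g * z * g⁻¹ ∈ coreAt z) :
    z ∈ coreAt (g * z * g⁻¹) := by
  have hX := h.conj g
  set x := g * z * g⁻¹ with hxdef
  by_cases hxz : x = z
  · rw [hxz]; exact h.mem_self
  have hz : ∀ q ∈ coreAt z, z * q = q * z := fun q hq => coreAt_comm hq
  have hzx : z * x = x * z := hz x hx
  have hx2 : x * x = 1 := hX.mul_self
  by_cases hab : ∀ a ∈ coreAt z, a * x = x * a → ∀ b ∈ coreAt z, b * x = x * b → a * b = b * a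
  · have hH := h.cent_le_of_small hx hx2 hxz hX.ne_one hab
    have hz' : z ∈ Subgroup.centralizer ({x} : Set G) := mem_cent.2 hzx.symm
    rw [hxdef, ← map_cent, hH, ← coreAt_conj] at hz'
    exact hz'
  by_contra hzQ
  push_neg at hab
  obtain ⟨a₁, ha₁, ha₁x, a₂, ha₂, ha₂x, hne⟩ := hab
  -- no element of the core at `x` moves `z` to `z * x`
  have hno : ∀ u ∈ coreAt x, u * z * u⁻¹ ≠ z * x := by
    intro u hu e
    have hux : u * x * u⁻¹ = x := by rw [← coreAt_comm hu, mul_inv_cancel_right]
    have hzu : z ∈ coreAt (u * z * u⁻¹) := by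
      have hm : z * x ∈ coreAt z := Subgroup.mul_mem _ h.mem_self hx
      have := conj_mem_coreAt (g := u) hm
      have e2 : u * (z * x) * u⁻¹ = z := by
        calc u * (z * x) * u⁻¹ = u * z * u⁻¹ * (u * x * u⁻¹) := by group
          _ = z := by rw [e, hux, mul_assoc, hx2, mul_one]
      rwa [e2] at this
    have hU := h.conj u
    obtain ⟨q, hq, hqz⟩ : ∃ q ∈ coreAt (u * z * u⁻¹), q * z ≠ z * q := by
      by_contra hn
      push_neg at hn
      rcases hU.center_cases hzu hn with e1 | e1
      · exact h.ne_one e1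
      · rw [e] at e1
        exact hX.ne_one (by simpa using e1)
    have hq1 : q * z * q⁻¹ = x := by
      rcases hU.conj_cases hq hzu with e1 | e1
      · exact absurd (mul_inv_eq_iff_eq_mul.1 e1) hqz
      · rw [e1, e, mul_assoc, ← hzx, ← mul_assoc, h.mul_self, one_mul]
    have hq2 : q * x * q⁻¹ = z := by
      have hc := coreAt_comm hq
      rw [e] at hc
      have hzx' : x = z * (z * x) := by rw [← mul_assoc, h.mul_self, one_mul]
      calc q * x * q⁻¹ = q * (z * (z * x)) * q⁻¹ := by rw [← hzx']
        _ = q * z * q⁻¹ * (q * (z * x) * q⁻¹) := by group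
        _ = x * (z * x) := by rw [hq1, ← hc, mul_inv_cancel_right]
        _ = z := by rw [hzx, ← mul_assoc, hx2, one_mul]
    have := conj_mem_coreAt (g := q) hx
    rw [hq2, hq1] at this
    exact hzQ this
  have hcX : ∀ a ∈ coreAt z, a * x = x * a → ∀ d ∈ coreAt z, d ∈ coreAt x →
      a * d * a⁻¹ = d := by
    intro a ha hax d hd hd'
    rcases h.conj_cases ha hd with e | e
    · exact e
    · exfalso
      apply hzQ
      have hm : a * d * a⁻¹ ∈ coreAt x := conj_mem_of_cent hax.symm hd'
      rw [e] at hm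
      simpa using Subgroup.mul_mem _ hm (Subgroup.inv_mem _ hd')
  -- the intersection of the two cores
  have hD : ∀ d ∈ coreAt z, d ∈ coreAt x → d = 1 ∨ d = x := by
    intro d hd hd'
    have hdx : d * x = x * d := (coreAt_comm hd').symm
    obtain ⟨q, hq, hqx⟩ : ∃ q ∈ coreAt z, q * x ≠ x * q := by
      by_contra hn
      push_neg at hn
      rcases h.center_cases hx hn with e | e
      · exact hX.ne_one e
      · exact hxz e
    have hmem : d ∈ Subgroup.closure (insert z ({x} : Set G)) :=
      h.double_centralizer {x} (Set.finite_singleton x) (by simpa using hx) hd (fun w hw hwl => by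
        exact mul_inv_eq_iff_eq_mul.1 (hcX w hw (hwl x rfl) d hd hd'))
    have h4 := closure_pair h.mul_self hx2 hzx hmem
    rcases h4 with e | e | e | e
    · exact Or.inl e
    · exact absurd (e ▸ hd') hzQ
    · exact Or.inr e
    · exact absurd (by
        have hm := Subgroup.mul_mem _ (e ▸ hd' : z * x ∈ coreAt x) hX.mem_self
        rwa [mul_assoc, hx2, mul_one] at hm) hzQ
  have hxQ : x ∈ coreAt x := hX.mem_self
  have hB : ∀ c ∈ coreAt x, (z * c * z⁻¹ = c ∨ z * c * z⁻¹ = x * c) → z * c = c * z := by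
    intro c hc hcase
    rcases hcase with e | e
    · exact mul_inv_eq_iff_eq_mul.1 e
    · exfalso
      apply hno c hc
      have hzi : z⁻¹ = z := inv_eq_of_mul_eq_one_right h.mul_self
      calc c * z * c⁻¹ = z⁻¹ * (z * c * z⁻¹) * z * z * c⁻¹ := by group
        _ = z⁻¹ * (x * c) * (z * z) * c⁻¹ := by rw [e]; group
        _ = z * x := by rw [h.mul_self, hzi]; group
  -- an element of the centralizer of `x` in the core moves the core at `x` by commuters of `z`
  have hmove : ∀ a ∈ coreAt z, a * x = x * a → ∀ c ∈ coreAt x, z * c = c * z →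
      a * c * a⁻¹ = c ∨ a * c * a⁻¹ = x * c := by
    intro a ha hax c hc hzc
    have h1 : a * c * a⁻¹ * c⁻¹ ∈ coreAt x :=
      Subgroup.mul_mem _ (conj_mem_of_cent hax.symm hc) (Subgroup.inv_mem _ hc)
    have h2 : a * c * a⁻¹ * c⁻¹ ∈ coreAt z := by
      rw [show a * c * a⁻¹ * c⁻¹ = a * (c * a⁻¹ * c⁻¹) by group]
      exact Subgroup.mul_mem _ ha (conj_mem_of_cent hzc (Subgroup.inv_mem _ ha))
    rcases hD _ h2 h1 with e | e
    · exact Or.inl (mul_inv_eq_one.1 e)
    · exact Or.inr (mul_inv_eq_iff_eq_mul.1 e)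
  have hshift : ∀ a ∈ coreAt z, a * x = x * a → ∀ q ∈ coreAt x,
      ∃ c ∈ coreAt x, z * c = c * z ∧ a * q * a⁻¹ = c * q := by
    intro a ha hax q hq
    have hzc := mem_cent.2 (coreAt_comm (x := z) (q := a) ha)
    set c := a * q * a⁻¹ * q⁻¹ with hcdef
    have hc : c ∈ coreAt x :=
      Subgroup.mul_mem _ (conj_mem_of_cent hax.symm hq) (Subgroup.inv_mem _ hq)
    have hzq : z * q * z⁻¹ ∈ coreAt x := conj_mem_of_cent hzx.symm hq
    set t := z * q * z⁻¹ * q⁻¹ with htdef
    have ht : t ∈ coreAt x := Subgroup.mul_mem _ hzq (Subgroup.inv_mem _ hq)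
    have htz : z * t = t * z := by
      apply hB t ht
      have hzi : z⁻¹ = z := inv_eq_of_mul_eq_one_right h.mul_self
      have e : z * t * z⁻¹ = t⁻¹ := by
        calc z * t * z⁻¹ = (z * z) * q * z⁻¹ * q⁻¹ * z⁻¹ := by rw [htdef]; group
          _ = q * z * q⁻¹ * z⁻¹ := by rw [h.mul_self, hzi]; group
          _ = t⁻¹ := by rw [htdef]; group
      rw [e]
      have hsq : t * t = 1 ∨ t * t = x := hX.sq_cases ht
      rcases hsq with e1 | e1
      · exact Or.inl (inv_eq_of_mul_eq_one_right e1)
      · right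
        symm
        apply eq_inv_of_mul_eq_one_left
        rw [mul_assoc, e1, hx2]
    refine ⟨c, hc, hB c hc ?_, by rw [hcdef]; group⟩
    have hza : z * a = a * z := coreAt_comm ha
    have e1 : z * c * z⁻¹ = (a * t * a⁻¹) * c * t⁻¹ := by
      calc z * c * z⁻¹ = (z * a) * q * a⁻¹ * z⁻¹ * (z * q⁻¹ * z⁻¹) := by rw [hcdef]; group
        _ = (a * z) * q * (z * a)⁻¹ * (z * q⁻¹ * z⁻¹) := by rw [← hza]; group
        _ = (a * z) * q * (a * z)⁻¹ * (z * q⁻¹ * z⁻¹) := by rw [hza]
        _ = (a * t * a⁻¹) * c * t⁻¹ := by rw [hcdef, htdef]; group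
    rw [e1]
    have htc : t * c * t⁻¹ = c ∨ t * c * t⁻¹ = x * c := hX.conj_cases ht hc
    rcases hmove a ha hax t ht htz with e2 | e2 <;> rw [e2]
    · exact htc
    · rcases htc with e3 | e3
      · right; rw [mul_assoc x t c, mul_assoc x (t * c) t⁻¹, e3]
      · left; rw [mul_assoc x t c, mul_assoc x (t * c) t⁻¹, e3, ← mul_assoc, hx2, one_mul]
  -- so `z` centralizes the core at `x`
  apply hzQ
  apply hX.self_cent
  intro q hq
  have hq' : q ∈ coreAt x := SetLike.mem_coe.1 hq
  obtain ⟨c₁, hc₁, hzc₁, e₁⟩ := hshift a₁ ha₁ ha₁x q hq'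
  obtain ⟨c₂, hc₂, hzc₂, e₂⟩ := hshift a₂ ha₂ ha₂x q hq'
  have hxc : ∀ r ∈ coreAt x, x * r = r * x := fun r hr => coreAt_comm hr
  -- product of the two actions in either order
  have hA : ∀ (a c c' d : G), a * c' * a⁻¹ = c' ∨ a * c' * a⁻¹ = x * c' → a * q * a⁻¹ = c * q →
      d = c' * c → (a * (c' * q) * a⁻¹ = d * q ∨ a * (c' * q) * a⁻¹ = x * (d * q)) := by
    intro a c c' d hh e hd
    subst hd
    rw [show a * (c' * q) * a⁻¹ = (a * c' * a⁻¹) * (a * q * a⁻¹) by group, e]
    rcases hh with e' | e' <;> rw [e']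
    · exact Or.inl (by group)
    · exact Or.inr (by group)
  have h12 := hA a₁ c₁ c₂ _ (hmove a₁ ha₁ ha₁x c₂ hc₂ hzc₂) e₁ rfl
  have h21 := hA a₂ c₂ c₁ _ (hmove a₂ ha₂ ha₂x c₁ hc₁ hzc₁) e₂ rfl
  have hcomm : c₂ * c₁ = c₁ * c₂ ∨ c₂ * c₁ = x * (c₁ * c₂) := by
    rcases hX.conj_cases hc₂ hc₁ with e | e <;> rw [mul_inv_eq_iff_eq_mul] at e
    · exact Or.inl e
    · exact Or.inr (by rw [e, mul_assoc])
  have hz12 : a₁ * a₂ = z * (a₂ * a₁) := by
    rcases h.conj_cases ha₁ ha₂ with e | e <;> rw [mul_inv_eq_iff_eq_mul] at e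
    · exact absurd e hne
    · rw [e, mul_assoc]
  set w := a₂ * (a₁ * q * a₁⁻¹) * a₂⁻¹ with hw
  have hzw : a₁ * (a₂ * q * a₂⁻¹) * a₁⁻¹ = z * w * z⁻¹ := by
    rw [hw, show a₁ * (a₂ * q * a₂⁻¹) * a₁⁻¹ = (a₁ * a₂) * q * (a₁ * a₂)⁻¹ by group, hz12]
    group
  rw [e₂] at hzw
  rw [e₁] at hw
  rw [hzw] at h12
  rw [← hw] at h21
  have hwx : w ∈ coreAt x := by
    rcases h21 with e | e <;> rw [e]
    · exact Subgroup.mul_mem _ (Subgroup.mul_mem _ hc₁ hc₂) hq'
    · exact Subgroup.mul_mem _ hxQ (Subgroup.mul_mem _ (Subgroup.mul_mem _ hc₁ hc₂) hq')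
  have hzw' : z * w = w * z := by
    apply hB w hwx
    rcases h12 with e | e <;> rcases h21 with e' | e' <;> rcases hcomm with e'' | e'' <;>
      rw [e, e', e''] <;> simp [mul_assoc] <;> simp [← mul_assoc, hx2]
  rcases h21 with e | e <;> rw [e] at hzw'
  · have hc : z * (c₁ * c₂) = c₁ * c₂ * z := by rw [← mul_assoc, hzc₁, mul_assoc, hzc₂, ← mul_assoc]
    rw [← mul_assoc, hc, mul_assoc, mul_assoc _ q z] at hzw'
    exact (mul_left_cancel hzw').symm
  · have hc : z * (x * (c₁ * c₂)) = x * (c₁ * c₂) * z := by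
      rw [← mul_assoc, hzx, mul_assoc x z, ← mul_assoc z c₁, hzc₁, mul_assoc c₁ z, hzc₂]; group
    rw [← mul_assoc x, ← mul_assoc z, hc, mul_assoc, mul_assoc _ q z] at hzw'
    exact (mul_left_cancel hzw').symm

end Symmetric

/-! ### Singular subgroups -/

section Singular

variable {U : Subgroup G}

theorem conj_mem_singular (hL : ∀ u ∈ U, u ≠ 1 → IsLarge u)
    (hO : ∀ u ∈ U, ∀ v ∈ U, u ≠ 1 → v ≠ 1 → v ∈ coreAt u)
    {u q v : G} (hu : u ∈ U) (hu1 : u ≠ 1) (hq : q ∈ coreAt u) (hv : v ∈ U) : q * v * q⁻¹ ∈ U := by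
  by_cases hv1 : v = 1
  · subst hv1; simp
  rcases (hL u hu hu1).conj_cases hq (hO u hu v hv hu1 hv1) with e | e <;> rw [e]
  · exact hv
  · exact U.mul_mem hu hv

theorem le_normalizer (hL : ∀ u ∈ U, u ≠ 1 → IsLarge u)
    (hO : ∀ u ∈ U, ∀ v ∈ U, u ≠ 1 → v ≠ 1 → v ∈ coreAt u) {u : G} (hu : u ∈ U) (hu1 : u ≠ 1) :
    coreAt u ≤ Subgroup.normalizer (U : Set G) := by
  intro q hq
  rw [Subgroup.mem_normalizer_iff]
  intro v
  refine ⟨fun hv => conj_mem_singular hL hO hu hu1 hq hv, fun hv => ?_⟩
  have := conj_mem_singular hL hO hu hu1 (Subgroup.inv_mem _ hq) hv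
  simpa [mul_assoc] using this

theorem singular_subset (hL : ∀ u ∈ U, u ≠ 1 → IsLarge u)
    (hO : ∀ u ∈ U, ∀ v ∈ U, u ≠ 1 → v ≠ 1 → v ∈ coreAt u) {u : G} (hu : u ∈ U) (hu1 : u ≠ 1) :
    (U : Set G) ⊆ coreAt u := by
  intro v hv
  by_cases hv1 : v = 1
  · subst hv1; exact one_mem _
  · exact hO u hu v hv hu1 hv1

/-- Some element of the core at `u`, commuting with a given part of `U`, moves `w` to `u * w`. -/
theorem exists_move (hL : ∀ u ∈ U, u ≠ 1 → IsLarge u)
    (hO : ∀ u ∈ U, ∀ v ∈ U, u ≠ 1 → v ≠ 1 → v ∈ coreAt u) [Finite G] {u : G} (hu : u ∈ U)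
    (hu1 : u ≠ 1) {S : Set G} (hS : S ⊆ U) {w : G} (hw : w ∈ coreAt u)
    (hwS : w ∉ Subgroup.closure (insert u S)) :
    ∃ q ∈ coreAt u, (∀ l ∈ S, q * l = l * q) ∧ q * w * q⁻¹ = u * w := by
  by_contra hn
  push_neg at hn
  apply hwS
  refine (hL u hu hu1).double_centralizer S (Set.toFinite _) (hS.trans (singular_subset hL hO hu hu1)) hw ?_
  intro q hq hql
  rcases (hL u hu hu1).conj_cases hq hw with e | e
  · exact mul_inv_eq_iff_eq_mul.1 e
  · exact absurd e (hn q hq hql)

theorem iInf_mem {Q : G → Subgroup G} {S : Set G} {y : G} :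
    y ∈ (⨅ u ∈ S, Q u) ↔ ∀ u ∈ S, y ∈ Q u := by
  simp [Subgroup.mem_iInf]

theorem le_iSup_core {u : G} (hu : u ∈ U) (hu1 : u ≠ 1) :
    coreAt u ≤ ⨆ v ∈ ((U : Set G) \ {1}), coreAt v :=
  le_iSup₂_of_le u (show u ∈ (U : Set G) \ {1} from ⟨hu, hu1⟩) le_rfl

/-- The joins of the cores over `U` induce every automorphism of `U`. -/
theorem induces (hL : ∀ u ∈ U, u ≠ 1 → IsLarge u)
    (hO : ∀ u ∈ U, ∀ v ∈ U, u ≠ 1 → v ≠ 1 → v ∈ coreAt u) [Finite G]
    (hU2 : ∀ u ∈ U, u * u = 1) (φ : ↥U ≃* ↥U) :
    ∃ g ∈ (⨆ v ∈ ((U : Set G) \ {1}), coreAt v),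
      ∀ u : ↥U, g * (u : G) * g⁻¹ = ((φ u : ↥U) : G) := by
  set LU := ⨆ v ∈ ((U : Set G) \ {1}), coreAt v with hLU
  have hN : LU ≤ Subgroup.normalizer (U : Set G) :=
    iSup₂_le fun v hv => le_normalizer hL hO hv.1 hv.2
  have key : ∀ T : Set ↥U, T.Finite → ∃ g ∈ LU, ∀ u ∈ T, g * (u : G) * g⁻¹ = ((φ u : ↥U) : G) := by
    intro T hT
    induction T, hT using Set.Finite.induction_on with
    | empty => exact ⟨1, one_mem _, by simp⟩
    | @insert w T _ _ ih =>
      obtain ⟨g, hg, hgT⟩ := ih
      by_cases hwg : g * (w : G) * g⁻¹ = ((φ w : ↥U) : G)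
      · refine ⟨g, hg, fun t ht => ?_⟩
        rcases ht with rfl | ht
        · exact hwg
        · exact hgT t ht
      set w₁ := g * (w : G) * g⁻¹ with hw₁
      set w₂ := ((φ w : ↥U) : G) with hw₂
      set S := (fun t : ↥U => ((φ t : ↥U) : G)) '' T with hSdef
      have hw₁U : w₁ ∈ U := (Subgroup.mem_normalizer_iff.1 (hN hg) _).1 w.2
      have hw₂U : w₂ ∈ U := (φ w).2
      set u := w₁ * w₂ with hu
      have hu1 : u ≠ 1 := by
        intro e
        apply hwg
        have := eq_inv_of_mul_eq_one_left e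
        rwa [inv_eq_of_mul_eq_one_right (hU2 _ hw₂U)] at this
      have huU : u ∈ U := U.mul_mem hw₁U hw₂U
      have huw : u * w₁ = w₂ := by
        have : w₂ * w₁ = u := by
          have e1 := hU2 u huU
          rw [hu] at e1 ⊢
          calc w₂ * w₁ = (w₁ * w₁) * (w₂ * w₁) * (w₂ * w₂) := by
                rw [hU2 _ hw₁U, hU2 _ hw₂U, one_mul, mul_one]
            _ = w₁ * (w₁ * w₂ * (w₁ * w₂)) * w₂ := by group
            _ = w₁ * w₂ := by rw [e1, mul_one]
        rw [← this, mul_assoc, hU2 _ hw₁U, mul_one]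
      have hSU : S ⊆ U := by rintro _ ⟨t, -, rfl⟩; exact (φ t).2
      have hnot : w₁ ∉ Subgroup.closure (insert u S) := by
        intro hm
        have hform : ∀ a ∈ Subgroup.closure (insert u S),
            a ∈ U ∧ (a ∈ Subgroup.closure S ∨ u * a ∈ Subgroup.closure S) := by
          intro a ha
          induction ha using Subgroup.closure_induction with
          | mem a ha =>
            rcases ha with rfl | ha
            · exact ⟨huU, Or.inr (by rw [hU2 u huU]; exact one_mem _)⟩
            · exact ⟨hSU ha, Or.inl (Subgroup.subset_closure ha)⟩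
          | one => exact ⟨one_mem _, Or.inl (one_mem _)⟩
          | mul a b _ _ ha hb =>
            refine ⟨U.mul_mem ha.1 hb.1, ?_⟩
            have hau : u * a = a * u := by
              have e1 := hU2 _ (U.mul_mem huU ha.1)
              calc u * a = (a * a) * (u * a) := by rw [hU2 a ha.1, one_mul]
                _ = a * (u * u) * (a * (u * a)) := by rw [hU2 u huU, mul_one]; group
                _ = a * u * (u * a * (u * a)) := by group
                _ = a * u := by rw [e1, mul_one]
            rcases ha.2 with h1 | h1 <;> rcases hb.2 with h2 | h2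
            · exact Or.inl (Subgroup.mul_mem _ h1 h2)
            · exact Or.inr (by
                rw [← mul_assoc, hau, mul_assoc]; exact Subgroup.mul_mem _ h1 h2)
            · exact Or.inr (by rw [← mul_assoc]; exact Subgroup.mul_mem _ h1 h2)
            · refine Or.inl ?_
              have := Subgroup.mul_mem _ h1 h2
              rwa [hau, mul_assoc a u, ← mul_assoc u u, hU2 u huU, one_mul] at this
          | inv a _ ha =>
            rw [inv_eq_of_mul_eq_one_right (hU2 a ha.1)]; exact ha
        have hpull : ∀ a ∈ Subgroup.closure S, ∀ t : ↥U, (φ t : ↥U).1 = a →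
            g * (t : G) * g⁻¹ = a := by
          intro a ha
          induction ha using Subgroup.closure_induction with
          | mem a ha =>
            obtain ⟨s, hs, rfl⟩ := ha
            intro t ht
            rw [φ.injective (Subtype.ext ht)]
            exact hgT s hs
          | one =>
            intro t ht
            have : φ t = φ 1 := by rw [map_one]; exact Subtype.ext ht
            rw [φ.injective this]; simp
          | mul a b ha' hb' ha hb =>
            intro t ht
            have hmem : ∀ c ∈ Subgroup.closure S, c ∈ U := fun c hc => (Subgroup.closure_le _).2 hSU hc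
            obtain ⟨ta, hta⟩ := φ.surjective ⟨a, hmem a ha'⟩
            obtain ⟨tb, htb⟩ := φ.surjective ⟨b, hmem b hb'⟩
            have : φ t = φ (ta * tb) := by rw [map_mul, hta, htb]; exact Subtype.ext ht
            rw [φ.injective this, Subgroup.coe_mul, show g * ((ta : G) * tb) * g⁻¹ =
              g * (ta : G) * g⁻¹ * (g * (tb : G) * g⁻¹) by group,
              ha ta (by rw [hta]), hb tb (by rw [htb])]
          | inv a ha' ha =>
            intro t ht
            have : (φ t⁻¹ : ↥U).1 = a := by rw [map_inv, Subgroup.coe_inv, ht, inv_inv]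
            have h' := ha t⁻¹ this
            rw [Subgroup.coe_inv] at h'
            rw [← h']
            group
        rcases (hform _ hm).2 with h1 | h1
        · obtain ⟨t, ht⟩ := φ.surjective ⟨w₁, hw₁U⟩
          have h' := hpull _ h1 t (by rw [ht])
          have : (t : G) = w := mul_left_cancel (mul_right_cancel h')
          apply hwg
          rw [hw₂, ← Subtype.ext this, ht]
        · rw [huw] at h1
          exact hwg (hpull _ h1 w rfl)
      obtain ⟨q, hq, hqS, hqw⟩ := exists_move hL hO huU hu1 hSU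
        (singular_subset hL hO huU hu1 hw₁U) hnot
      refine ⟨q * g, LU.mul_mem (le_iSup_core huU hu1 hq) hg, ?_⟩
      rintro t (rfl | ht)
      · rw [show q * g * (t : G) * (q * g)⁻¹ = q * (g * (t : G) * g⁻¹) * q⁻¹ by group, ← hw₁,
          hqw, huw]
      · rw [show q * g * (t : G) * (q * g)⁻¹ = q * (g * (t : G) * g⁻¹) * q⁻¹ by group, hgT t ht,
          hqS _ ⟨t, ht, rfl⟩, mul_inv_cancel_right]
  obtain ⟨g, hg, h⟩ := key Set.univ (Set.toFinite _)
  exact ⟨g, hg, fun u => h u trivial⟩

end Singular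

end Cfsg.Agent.H94.LargeExtra
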