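import Mathlib
import Cfsg.Prelude.Def_AxialAlgebras

/-!
Basic facts on eigenspaces of a Majorana axis: separation of the eigenspaces, decomposition of a vector,
and transport of Majorana pairs along automorphisms.
-/

set_option autoImplicit false

open Cfsg.Axial

namespace Cfsg.Agent.H94.Majorana

variable {V : Type*} [AddCommGroup V] [Module ℝ V] {mul : V →ₗ[ℝ] V →ₗ[ℝ] V}
  {B : LinearMap.BilinForm ℝ V}

theorem mem_eigen {a v : V} {c : ℝ} : v ∈ eigen mul a c ↔ mul a v = c • v :=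
  Module.End.mem_eigenspace_iff

theorem eigenSum_pair (a : V) (c d : ℝ) : eigenSum mul a {c, d} = eigen mul a c ⊔ eigen mul a d := by
  simp only [eigenSum, iSup_pair]

theorem eigenSum_single (a : V) (c : ℝ) : eigenSum mul a {c} = eigen mul a c := by
  simp only [eigenSum, iSup_singleton]

/-- The quarter eigenspace meets the sum of the eigenspaces for 1 and 0 trivially. -/
theorem eq_zero_of_quarter_of_mem {a x : V} (h1 : mul a x = (1 / 4 : ℝ) • x)
    (h2 : x ∈ eigenSum mul a {1, 0}) : x = 0 := by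
  rw [eigenSum_pair, Submodule.mem_sup] at h2
  obtain ⟨y, hy, z, hz, rfl⟩ := h2
  rw [mem_eigen] at hy hz
  rw [map_add, hy, hz, one_smul, zero_smul, add_zero] at h1
  -- applying `mul a` once more
  have h3 := congrArg (mul a) h1
  rw [map_smul, map_add, hy, hz, one_smul, zero_smul, add_zero] at h3
  have hy0 : y = 0 := by
    have : (3 / 4 : ℝ) • y = 0 := by
      have : y - (1 / 4 : ℝ) • y = 0 := sub_eq_zero.2 h3
      rw [← this]; module
    simpa using this
  subst hy0
  simp at h1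
  simpa using h1.symm

theorem law_quarter_quarter : monsterLaw (1 / 4 : ℝ) (1 / 32) (1 / 4) (1 / 4) = {1, 0} := by
  norm_num [monsterLaw]

theorem law_zero_quarter : monsterLaw (1 / 4 : ℝ) (1 / 32) 0 (1 / 4) = {1 / 4} := by
  norm_num [monsterLaw]

theorem law_zero_zero : monsterLaw (1 / 4 : ℝ) (1 / 32) 0 0 = {0} := by
  norm_num [monsterLaw]

section Pair

variable {μ : V ≃ₗ[ℝ] V} {a : V} (h : IsMajoranaPair mul B μ a)
include h

theorem idem : mul a a = a := h.2.2.1.1.2.1

theorem axis_ne_zero : a ≠ 0 := h.2.2.1.1.1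

theorem fusion {c d : ℝ} (hc : c ∈ majoranaSpectrum) (hd : d ∈ majoranaSpectrum) {u v : V}
    (hu : mul a u = c • u) (hv : mul a v = d • v) :
    mul u v ∈ eigenSum mul a (monsterLaw (1 / 4) (1 / 32) c d) :=
  h.2.2.1.1.2.2.2 c hc d hd u (mem_eigen.2 hu) v (mem_eigen.2 hv)

theorem mul_quarter_quarter {u v : V} (hu : mul a u = (1 / 4 : ℝ) • u) (hv : mul a v = (1 / 4 : ℝ) • v) :
    mul u v ∈ eigenSum mul a {1, 0} := by
  have := fusion h (by simp [majoranaSpectrum]) (by simp [majoranaSpectrum]) hu hv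
  rwa [law_quarter_quarter] at this

theorem mul_zero_quarter {u v : V} (hu : mul a u = 0) (hv : mul a v = (1 / 4 : ℝ) • v) :
    mul a (mul u v) = (1 / 4 : ℝ) • mul u v := by
  have := fusion h (c := 0) (by simp [majoranaSpectrum]) (by simp [majoranaSpectrum])
    (by rw [hu, zero_smul]) hv
  rw [law_zero_quarter, eigenSum_single] at this
  exact mem_eigen.1 this

theorem mul_zero_zero {u v : V} (hu : mul a u = 0) (hv : mul a v = 0) :
    mul a (mul u v) = 0 := by
  have := fusion h (c := 0) (d := 0) (by simp [majoranaSpectrum]) (by simp [majoranaSpectrum])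
    (by rw [hu, zero_smul]) (by rw [hv, zero_smul])
  rw [law_zero_zero, eigenSum_single] at this
  simpa using mem_eigen.1 this

theorem self_mem_oneZero : a ∈ eigenSum mul a {1, 0} := by
  rw [eigenSum_pair]
  exact Submodule.mem_sup_left (mem_eigen.2 (by rw [one_smul]; exact idem h))

omit h in
theorem zero_mem_oneZero {u : V} (hu : mul a u = 0) : u ∈ eigenSum mul a {1, 0} := by
  rw [eigenSum_pair]
  exact Submodule.mem_sup_right (mem_eigen.2 (by rw [zero_smul]; exact hu))

/-- Decomposition into the four eigenspaces, with the action of the involution. -/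
theorem decompose (v : V) : ∃ (c : ℝ) (x y w : V), v = c • a + x + y + w ∧ mul a x = 0 ∧
    mul a y = (1 / 4 : ℝ) • y ∧ mul a w = (1 / 32 : ℝ) • w ∧ μ v = c • a + x + y - w := by
  have htop : v ∈ eigenSum mul a majoranaSpectrum := by rw [h.2.2.1.1.2.2.1]; trivial
  simp only [eigenSum, majoranaSpectrum, iSup_insert, iSup_singleton, Submodule.mem_sup] at htop
  obtain ⟨p, hp, r, ⟨x, hx, q, ⟨y, hy, w, hw, rfl⟩, rfl⟩, rfl⟩ := htop
  have hp' := hp
  rw [h.2.2.1.2, Submodule.mem_span_singleton] at hp'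
  obtain ⟨c, rfl⟩ := hp'
  have hfix : ∀ t (s : ℝ), s ∈ ({1, 0, 1 / 4} : Set ℝ) → t ∈ eigen mul a s → μ t = t := by
    intro t s hs ht
    exact h.2.2.2.1 t (Submodule.mem_iSup_of_mem s (Submodule.mem_iSup_of_mem hs ht))
  refine ⟨c, x, y, w, by abel, ?_, mem_eigen.1 hy, mem_eigen.1 hw, ?_⟩
  · simpa using mem_eigen.1 hx
  · have h1 := hfix _ 1 (by simp) hp
    have h2 := hfix _ 0 (by simp) hx
    have h3 := hfix _ (1 / 4) (by simp) hy
    have h4 : μ w = -w := h.2.2.2.2 w hw
    rw [map_add, map_add, map_add, h1, h2, h3, h4]; abel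

/-- Transport of a Majorana pair along an automorphism of the product and the form. -/
theorem map (φ : V ≃ₗ[ℝ] V) (hm : ∀ u v : V, φ (mul u v) = mul (φ u) (φ v))
    (hB : ∀ u v : V, B (φ u) (φ v) = B u v) : IsMajoranaPair mul B (φ * μ * φ⁻¹) (φ a) := by
  have hinv : ∀ v, (φ⁻¹ : V ≃ₗ[ℝ] V) v = φ.symm v := fun _ => rfl
  have happ : ∀ v, (φ * μ * φ⁻¹ : V ≃ₗ[ℝ] V) v = φ (μ (φ.symm v)) := fun _ => rfl
  have hms : ∀ u v : V, φ.symm (mul u v) = mul (φ.symm u) (φ.symm v) := by
    intro u v; apply φ.injective; rw [hm]; simp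
  have hE : ∀ c, eigen mul (φ a) c = (eigen mul a c).map (φ : V →ₗ[ℝ] V) := by
    intro c; ext v
    rw [mem_eigen, Submodule.mem_map]
    constructor
    · intro hv
      refine ⟨φ.symm v, mem_eigen.2 (φ.injective ?_), by simp⟩
      rw [hm, map_smul]; simpa using hv
    · rintro ⟨u, hu, rfl⟩
      show mul (φ a) (φ u) = c • φ u
      rw [← hm, mem_eigen.1 hu, map_smul]
  have hS : ∀ S, eigenSum mul (φ a) S = (eigenSum mul a S).map (φ : V →ₗ[ℝ] V) := by
    intro S; simp only [eigenSum, Submodule.map_iSup, hE]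
  obtain ⟨hμm, hμB, ⟨⟨ha0, haa, htop, hfus⟩, hprim⟩, hfix, hneg⟩ := h
  refine ⟨?_, ?_, ⟨⟨?_, ?_, ?_, ?_⟩, ?_⟩, ?_, ?_⟩
  · intro u v; rw [happ, happ, happ, hms, hμm, hm]
  · intro u v; rw [happ, happ, hB, hμB]
    conv_rhs => rw [← φ.apply_symm_apply u, ← φ.apply_symm_apply v, hB]
  · simpa using ha0
  · rw [← hm, haa]
  · rw [hS, htop, Submodule.map_top]; exact LinearEquiv.range φ
  · intro c hc d hd u hu v hv
    rw [hE] at hu hv
    obtain ⟨u, hu, rfl⟩ := hu
    obtain ⟨v, hv, rfl⟩ := hv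
    rw [hS]
    exact ⟨_, hfus c hc d hd u hu v hv, hm u v⟩
  · rw [hE, hprim, Submodule.map_span, Set.image_singleton]; rfl
  · intro v hv
    rw [hS] at hv
    obtain ⟨u, hu, rfl⟩ := hv
    show (φ * μ * φ⁻¹ : V ≃ₗ[ℝ] V) (φ u) = φ u
    rw [happ, φ.symm_apply_apply]
    exact congrArg φ (hfix u hu)
  · intro v hv
    rw [hE] at hv
    obtain ⟨u, hu, rfl⟩ := hv
    show (φ * μ * φ⁻¹ : V ≃ₗ[ℝ] V) (φ u) = -φ u
    rw [happ, φ.symm_apply_apply, ← map_neg]
    exact congrArg φ (hneg u hu)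

end Pair

end Cfsg.Agent.H94.Majorana
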