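import Cfsg.Agent.H70.CubeFoldPerm
import Cfsg.Agent.H70.CubeFoldFacts
import Mathlib.GroupTheory.SpecificGroups.Alternating

/-!
The wreath model `(S₃ ≀ S₃) ∩ A₉` is the normaliser in `A₉` of the group generated by the three
block three-cycles.
-/

set_option autoImplicit false
set_option Elab.async false

namespace Cfsg.Agent.H94.NineDeg

open H70.CubeFold (W M enum rot toPerm gen pick)
open H70.ThreeCube (act actFun)

/-- The three block three-cycles. -/
def cyc : Fin 3 → Equiv.Perm (Fin 9) :=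
  ![Equiv.swap (0 : Fin 9) 1 * Equiv.swap 1 2, Equiv.swap (3 : Fin 9) 4 * Equiv.swap 4 5,
    Equiv.swap (6 : Fin 9) 7 * Equiv.swap 7 8]

/-- The group generated by the three block three-cycles. -/
def jModel : Subgroup (Equiv.Perm (Fin 9)) := Subgroup.closure
  {Equiv.swap (0 : Fin 9) 1 * Equiv.swap 1 2, Equiv.swap (3 : Fin 9) 4 * Equiv.swap 4 5,
    Equiv.swap (6 : Fin 9) 7 * Equiv.swap 7 8}

theorem cyc_mem (i : Fin 3) : cyc i ∈ jModel := by
  refine Subgroup.subset_closure ?_
  fin_cases i <;> simp [cyc]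

/-- A point from its block and its place. -/
def pt (i k : Fin 3) : Fin 9 := ⟨3 * i.val + k.val, by omega⟩

theorem pt_surj : ∀ p, ∃ i k, pt i k = p := by decide +kernel

theorem toPerm_pt : ∀ (v : H70.ThreeCube.V) (g : DihedralGroup 3) (i k : Fin 3),
    toPerm ⟨v, g⟩ (pt i k) = pt (act g i) (act (pick v (act g i)) k) := by
  decide +kernel

theorem act_surj : ∀ f : Fin 3 → Fin 3, (∀ k l, f k = f l → k = l) →
    ∃ g, ∀ k, act g k = f k := by
  decide +kernel

/-- The unit vectors. -/
def unit3 : Fin 3 → Fin 3 × Fin 3 × Fin 3 := ![(1, 0, 0), (0, 1, 0), (0, 0, 1)]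

theorem cyc_eq : ∀ i, cyc i = toPerm (enum (rot (unit3 i))) := by decide +kernel

theorem rot_zero : enum (rot (0, 0, 0)) = (1 : W) := by decide +kernel

theorem rot_add : ∀ a b, enum (rot a) * enum (rot b) = enum (rot (a + b)) := by decide +kernel

theorem rot_gen : ∀ a : Fin 3 × Fin 3 × Fin 3,
    toPerm (enum (rot a)) = cyc 0 ^ a.1.val * cyc 1 ^ a.2.1.val * cyc 2 ^ a.2.2.val := by
  decide +kernel

theorem jModel_eq : ∀ p, p ∈ jModel ↔ ∃ a, p = toPerm (enum (rot a)) := by
  intro p
  refine ⟨fun hp => ?_, ?_⟩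
  · induction hp using Subgroup.closure_induction with
    | mem x hx =>
      simp only [Set.mem_insert_iff, Set.mem_singleton_iff] at hx
      rcases hx with rfl | rfl | rfl
      exacts [⟨_, cyc_eq 0⟩, ⟨_, cyc_eq 1⟩, ⟨_, cyc_eq 2⟩]
    | one => exact ⟨_, by rw [rot_zero, map_one]⟩
    | mul x y _ _ hx hy =>
      obtain ⟨a, rfl⟩ := hx
      obtain ⟨b, rfl⟩ := hy
      exact ⟨a + b, by rw [← map_mul, rot_add]⟩
    | inv x _ hx =>
      obtain ⟨a, rfl⟩ := hx
      refine ⟨-a, ?_⟩
      rw [← map_inv]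
      refine congrArg _ (inv_eq_of_mul_eq_one_right ?_)
      rw [rot_add, add_neg_cancel]
      exact rot_zero
  · rintro ⟨a, rfl⟩
    rw [rot_gen]
    exact mul_mem (mul_mem (pow_mem (cyc_mem 0) _) (pow_mem (cyc_mem 1) _))
      (pow_mem (cyc_mem 2) _)

theorem moved : ∀ a, (Finset.univ.filter fun p => toPerm (enum (rot a)) p ≠ p).card = 3 →
    ∃ j, ∀ i k, (toPerm (enum (rot a)) (pt i k) ≠ pt i k ↔ i = j) := by
  decide +kernel

theorem cyc_moves : ∀ i j k, cyc i (pt j k) ≠ pt j k ↔ j = i := by decide +kernel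

theorem cyc_card : ∀ i, (Finset.univ.filter fun p => cyc i p ≠ p).card = 3 := by decide +kernel

theorem gen_conj : ∀ (n : Fin 4) (i : Fin 3), ∃ a,
    toPerm (gen n) * cyc i * (toPerm (gen n))⁻¹ = toPerm (enum (rot a)) := by
  decide +kernel

theorem sign_gen : ∀ n, Equiv.Perm.sign (toPerm (gen n)) = 1 := by
  intro n
  rw [H70.CubeFold.toPerm_gen]
  fin_cases n <;> simp [Equiv.Perm.sign_mul, Equiv.Perm.sign_swap']

/-- An odd element of the wreath product. -/
def odd : W := ⟨(.sr 0, 1, 1), 1⟩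

theorem odd_not_mem : odd ∉ M := by decide +kernel

theorem toPerm_odd : toPerm odd = Equiv.swap (1 : Fin 9) 2 := by decide +kernel

/-- The model is the normaliser in the alternating group. -/
theorem map_M_eq : M.map toPerm =
    alternatingGroup (Fin 9) ⊓ Subgroup.normalizer (jModel : Set (Equiv.Perm (Fin 9))) := by
  have hle : M.map toPerm ≤
      alternatingGroup (Fin 9) ⊓ Subgroup.normalizer (jModel : Set (Equiv.Perm (Fin 9))) := by
    rw [H70.CubeFold.map_M, Subgroup.closure_le]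
    intro p hp
    obtain ⟨n, rfl⟩ : ∃ n, p = toPerm (gen n) := by
      simp only [H70.CubeFold.toPerm_gen]
      simp only [Set.mem_insert_iff, Set.mem_singleton_iff] at hp
      rcases hp with rfl | rfl | rfl | rfl
      exacts [⟨0, rfl⟩, ⟨1, rfl⟩, ⟨2, rfl⟩, ⟨3, rfl⟩]
    refine Subgroup.mem_inf.mpr ⟨Equiv.Perm.mem_alternatingGroup.mpr (sign_gen n), ?_⟩
    have hmap : jModel.map (MulAut.conj (toPerm (gen n))).toMonoidHom ≤ jModel := by
      rw [jModel, MonoidHom.map_closure, Subgroup.closure_le]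
      rintro _ ⟨x, hx, rfl⟩
      obtain ⟨i, rfl⟩ : ∃ i, x = cyc i := by
        simp only [Set.mem_insert_iff, Set.mem_singleton_iff] at hx
        rcases hx with rfl | rfl | rfl
        exacts [⟨0, rfl⟩, ⟨1, rfl⟩, ⟨2, rfl⟩]
      obtain ⟨a, ha⟩ := gen_conj n i
      exact (jModel_eq _).mpr ⟨a, ha⟩
    have heq := Subgroup.eq_of_le_of_card_ge hmap
      (Nat.card_congr (jModel.equivMapOfInjective _
        (MulAut.conj (toPerm (gen n))).injective).toEquiv).le
    simp only [SetLike.mem_coe, Subgroup.mem_normalizer_iff]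
    intro x
    constructor
    · exact fun hx => hmap ⟨x, hx, rfl⟩
    · intro hx
      rw [← heq] at hx
      obtain ⟨y, hy, e⟩ := hx
      have : y = x := by simpa using e
      exact this ▸ hy
  refine le_antisymm hle ?_
  intro g hg
  obtain ⟨hga, hgn⟩ := Subgroup.mem_inf.mp hg
  clear hg
  have hblk : ∀ i, ∃ j, ∀ k, ∃ l, g (pt i k) = pt j l := by
    intro i
    obtain ⟨a, ha⟩ := (jModel_eq _).mp
      ((Subgroup.mem_normalizer_iff.mp hgn _).mp (cyc_mem i))
    have hmv : ∀ p, (toPerm (enum (rot a))) (g p) ≠ g p ↔ cyc i p ≠ p := fun p => by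
      rw [← ha]; simp [Equiv.Perm.mul_apply]
    have hc : (Finset.univ.filter fun p => toPerm (enum (rot a)) p ≠ p).card = 3 := by
      rw [show (Finset.univ.filter fun p => toPerm (enum (rot a)) p ≠ p) =
        (Finset.univ.filter fun p => cyc i p ≠ p).map g.toEmbedding by
          ext p
          simp only [Finset.mem_filter, Finset.mem_univ, true_and, Finset.mem_map_equiv]
          rw [← hmv, Equiv.apply_symm_apply], Finset.card_map]
      exact cyc_card i
    obtain ⟨j, hj⟩ := moved a hc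
    refine ⟨j, fun k => ?_⟩
    obtain ⟨j', l, hl⟩ := pt_surj (g (pt i k))
    refine ⟨l, ?_⟩
    rw [← hl]
    have : j' = j := (hj j' l).mp (by rw [hl, hmv, cyc_moves])
    rw [this]
  choose σ f hf using hblk
  have pt_inj : ∀ i k j l, pt i k = pt j l → i = j ∧ k = l := by decide +kernel
  have hfi : ∀ i k l, f i k = f i l → k = l := fun i k l h =>
    (pt_inj _ _ _ _ (g.injective (by rw [hf, hf, h]))).2
  have hσ : Function.Surjective σ := fun j => by
    obtain ⟨i, k, h⟩ := pt_surj (g⁻¹ (pt j 0))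
    refine ⟨i, ?_⟩
    have h' : g (pt i k) = pt j 0 := by rw [h]; simp
    rw [hf] at h'
    exact (pt_inj _ _ _ _ h').1
  obtain ⟨s, hs⟩ := act_surj σ (fun k l h => (Finite.injective_iff_surjective.mpr hσ) h)
  choose d hd using fun i => act_surj (f i) (hfi i)
  set w : W := ⟨H70.CubeFold.mk3 fun j => d ((act s)⁻¹ j), s⟩ with hw
  have hg : toPerm w = g := Equiv.ext fun p => by
    obtain ⟨i, k, rfl⟩ := pt_surj p
    rw [hw, toPerm_pt, hf, H70.CubeFold.pick_mk3, ← Equiv.Perm.mul_apply (act s)⁻¹ (act s),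
      inv_mul_cancel, Equiv.Perm.one_apply, hd, hs]
  refine ⟨w, ?_, hg⟩
  by_contra hn
  have hm : w * odd ∈ M := by
    show w * odd ∈ H70.CubeFold.sgnW.ker
    rw [MonoidHom.mem_ker, map_mul]
    have h1 := (Int.units_eq_one_or (H70.CubeFold.sgnW w)).resolve_left hn
    have h2 := (Int.units_eq_one_or (H70.CubeFold.sgnW odd)).resolve_left odd_not_mem
    rw [h1, h2]; decide
  have h := (Subgroup.mem_inf.mp (hle (Subgroup.mem_map_of_mem toPerm hm))).1
  rw [Equiv.Perm.mem_alternatingGroup, map_mul, hg, toPerm_odd, map_mul,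
    Equiv.Perm.mem_alternatingGroup.mp hga, Equiv.Perm.sign_swap (by decide)] at h
  exact absurd h (by decide)

/-- The model and the normaliser in the alternating group. -/
noncomputable def modelEquiv : M ≃* ↥(alternatingGroup (Fin 9) ⊓
    Subgroup.normalizer (jModel : Set (Equiv.Perm (Fin 9)))) :=
  (M.equivMapOfInjective toPerm H70.CubeFold.toPerm_injective).trans
    (MulEquiv.subgroupCongr map_M_eq)

end Cfsg.Agent.H94.NineDeg
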