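import Cfsg.Agent.H70.CubeFold
import Cfsg.Agent.H94.NineDegModel

/-!
The degenerate branch of the three-local recognition of `A₉`: if the normaliser of `J` contains
the centralisers of all non-trivial elements of `J`, it is the whole group.
-/

set_option autoImplicit false
set_option linter.unusedSectionVars false
set_option linter.style.haveILetI false

namespace Cfsg.Agent.H94.NineDeg

open H70.CubeFold (W M enum rot inJ avec)

/-- Normal three-subgroups of the model consist of rotations. -/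
theorem normal_le (N : Subgroup M) [N.Normal] (hN : IsPGroup 3 N) {x : M} (hx : x ∈ N) :
    inJ (x : W) := by
  classical
  haveI := Fintype.ofFinite M
  let S : H70.CubeFold.Setting M :=
    { H := ⊤
      J := (Cfsg.pCore 3 (⊤ : Subgroup M)).map (⊤ : Subgroup M).subtype
      ψ := Subgroup.topEquiv.symm
      hJ := rfl
      hC := fun _ _ _ => le_top }
  have hle : N.comap S.H.subtype ≤ Cfsg.pCore 3 S.H :=
    le_sSup ⟨Subgroup.Normal.comap inferInstance _,
      hN.comap_of_injective _ (Subgroup.subtype_injective _)⟩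
  have h : S.ψ x ∈ S.core := S.pCore_eq ▸ hle (show ((S.ψ x : S.H) : M) ∈ N from hx)
  have h' : inJ (S.π (S.ψ x)) := h
  rwa [S.π_ψ] at h'

theorem avec_inj : ∀ a b : Fin 3 × Fin 3 × Fin 3,
    (∀ i, avec (enum (rot a)) i = avec (enum (rot b)) i) → a = b := by
  decide +kernel

theorem card_pCore_le {H : Type*} [Group H] [Finite H] (e : H ≃* M) (K : Subgroup H) [K.Normal]
    (hK : IsPGroup 3 K) : Nat.card K ≤ 27 := by
  haveI : (K.map e.toMonoidHom).Normal := Subgroup.Normal.map inferInstance _ e.surjective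
  have hp : IsPGroup 3 (K.map e.toMonoidHom) := hK.map _
  let c : K → Fin 3 × Fin 3 × Fin 3 := fun k =>
    (avec (e k : W) 0, avec (e k : W) 1, avec (e k : W) 2)
  have hc : Function.Injective c := by
    intro k l h
    obtain ⟨a, ha⟩ := H70.CubeFold.Setting.inJ_rot (e k).2
      (normal_le _ hp (Subgroup.mem_map_of_mem _ k.2))
    obtain ⟨b, hb⟩ := H70.CubeFold.Setting.inJ_rot (e l).2
      (normal_le _ hp (Subgroup.mem_map_of_mem _ l.2))
    simp only [c, Prod.mk.injEq] at h
    have hab : a = b := avec_inj a b (by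
      intro i; rw [← ha, ← hb]; fin_cases i
      exacts [h.1, h.2.1, h.2.2])
    refine Subtype.ext (e.injective (Subtype.ext ?_))
    rw [ha, hb, hab]
  exact (Nat.card_le_card_of_injective c hc).trans (by simp [Nat.card_eq_fintype_card])

theorem isPGroup_pCore {H : Type*} [Group H] [Finite H] (e : H ≃* M) :
    Nat.card (Cfsg.pCore 3 H) ≤ 27 ∧ ∀ K : Subgroup H, K.Normal → IsPGroup 3 K →
      K ≤ Cfsg.pCore 3 H := by
  refine ⟨?_, fun K hK hp => le_sSup ⟨hK, hp⟩⟩
  classical
  haveI := Fintype.ofFinite H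
  let S : H70.CubeFold.Setting H :=
    { H := ⊤
      J := (Cfsg.pCore 3 (⊤ : Subgroup H)).map (⊤ : Subgroup H).subtype
      ψ := e.symm.trans Subgroup.topEquiv.symm
      hJ := rfl
      hC := fun _ _ _ => le_top }
  have hn : (S.core.map S.H.subtype).Normal := by
    refine ⟨fun x hx g => ?_⟩
    obtain ⟨y, hy, rfl⟩ := hx
    exact ⟨⟨g, Subgroup.mem_top g⟩ * y * ⟨g, Subgroup.mem_top g⟩⁻¹,
      S.core_normal.conj_mem _ hy _, rfl⟩
  have hp : IsPGroup 3 S.core := by
    intro x
    obtain ⟨a, ha⟩ := H70.CubeFold.Setting.inJ_rot (S.π_mem x) x.2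
    refine ⟨1, Subtype.ext (S.π_inj ?_)⟩
    simp only [pow_one, SubmonoidClass.coe_pow, map_pow, ha, OneMemClass.coe_one, map_one]
    exact H70.CubeFold.cube_J a
  haveI := hn
  have hle : Cfsg.pCore 3 H ≤ S.core.map S.H.subtype := by
    refine sSup_le ?_
    rintro K ⟨hK, hKp⟩ x hx
    refine ⟨⟨x, Subgroup.mem_top x⟩, ?_, rfl⟩
    rw [SetLike.mem_coe, ← S.pCore_eq]
    exact (le_sSup (α := Subgroup S.H) ⟨hK.comap _,
      hKp.comap_of_injective _ (Subgroup.subtype_injective _)⟩ :
        K.comap S.H.subtype ≤ Cfsg.pCore 3 S.H) hx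
  exact (Subgroup.card_le_of_le hle).trans (card_pCore_le e _ (hp.map _))

/-- The degenerate branch. -/
theorem top_of_centralizers {G : Type*} [Group G] [Finite G] (J : Subgroup G)
    (hJcard : Nat.card J = 27) (H : Subgroup G) (hH : H = Subgroup.normalizer (J : Set G))
    (eH : H ≃* ↥(alternatingGroup (Fin 9) ⊓
      Subgroup.normalizer (jModel : Set (Equiv.Perm (Fin 9)))))
    (hC : ∀ j ∈ J, j ≠ 1 → Subgroup.centralizer ({j} : Set G) ≤ H) : H = ⊤ := by
  classical
  haveI := Fintype.ofFinite G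
  let e : M ≃* H := modelEquiv.trans eH.symm
  have hJH : J ≤ H := hH ▸ Subgroup.le_normalizer
  haveI : (J.subgroupOf H).Normal :=
    Subgroup.normal_subgroupOf_iff_le_normalizer hJH |>.mpr hH.le
  have hp : IsPGroup 3 (J.subgroupOf H) :=
    IsPGroup.of_card (n := 3) (by
      rw [Nat.card_congr (Subgroup.subgroupOfEquivOfLe hJH).toEquiv, hJcard]; norm_num)
  obtain ⟨hcard, hle⟩ := isPGroup_pCore e.symm
  have heq : J.subgroupOf H = Cfsg.pCore 3 H :=
    Subgroup.eq_of_le_of_card_ge (hle _ inferInstance hp) (by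
      rw [Nat.card_congr (Subgroup.subgroupOfEquivOfLe hJH).toEquiv, hJcard]; exact hcard)
  have hJ : J = (Cfsg.pCore 3 H).map H.subtype := by
    rw [← heq, Subgroup.subgroupOf_map_subtype, inf_of_le_left hJH]
  exact (⟨H, J, e, hJ, hC⟩ : H70.CubeFold.Setting G).top_of_setting

end Cfsg.Agent.H94.NineDeg
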