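import Cfsg.Agent.H94.NineDeg

/-!
It is enough to bound the centralisers of three representatives: the three-cycle, the product of
two and the product of three disjoint three-cycles.
-/

set_option autoImplicit false
set_option linter.unusedSectionVars false
set_option linter.style.haveILetI false

namespace Cfsg.Agent.H94.NineDeg

open H70.CubeFold (W M enum rot inJ ee enum_mem orbit_J pp vv)

variable {G : Type*} [Group G] {H : Subgroup G}

/-- The representatives: `0` a three-cycle, `1` a product of two, `2` a product of three. -/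
noncomputable def jRep (eH : H ≃* ↥(alternatingGroup (Fin 9) ⊓
    Subgroup.normalizer (jModel : Set (Equiv.Perm (Fin 9))))) (w : Fin 3) : G :=
  ((modelEquiv.trans eH.symm) ⟨ee w, enum_mem _⟩ : G)

theorem card_pCore_model {H : Type*} [Group H] [Finite H] (e : H ≃* M) {h : H}
    (hh : h ∈ Cfsg.pCore 3 H) : inJ (e h : W) := by
  classical
  haveI := Fintype.ofFinite H
  let S : H70.CubeFold.Setting H :=
    { H := ⊤
      J := (Cfsg.pCore 3 (⊤ : Subgroup H)).map (⊤ : Subgroup H).subtype
      ψ := e.symm.trans Subgroup.topEquiv.symm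
      hJ := rfl
      hC := fun _ _ _ => le_top }
  have hle : Cfsg.pCore 3 H ≤ S.core.map S.H.subtype := by
    refine sSup_le ?_
    rintro K ⟨hK, hKp⟩ x hx
    refine ⟨⟨x, Subgroup.mem_top x⟩, ?_, rfl⟩
    rw [SetLike.mem_coe, ← S.pCore_eq]
    exact (le_sSup (α := Subgroup S.H) ⟨hK.comap _,
      hKp.comap_of_injective _ (Subgroup.subtype_injective _)⟩ :
        K.comap S.H.subtype ≤ Cfsg.pCore 3 S.H) hx
  obtain ⟨y, hy, rfl⟩ := hle hh
  have h' : inJ (S.π y) := hy
  have e2 : S.π y = (e (S.H.subtype y) : W) := by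
    simp only [H70.CubeFold.Setting.π, MonoidHom.coe_comp, Function.comp_apply, S]
    rfl
  rwa [e2] at h'

/-- The degenerate branch from the three representatives. -/
theorem top_of_three [Finite G] (J : Subgroup G) (hJcard : Nat.card J = 27)
    (hH : H = Subgroup.normalizer (J : Set G))
    (eH : H ≃* ↥(alternatingGroup (Fin 9) ⊓
      Subgroup.normalizer (jModel : Set (Equiv.Perm (Fin 9)))))
    (hC : ∀ w, Subgroup.centralizer ({jRep eH w} : Set G) ≤ H) : H = ⊤ := by
  classical
  refine top_of_centralizers J hJcard H hH eH fun j hj hj1 => ?_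
  have hjH : j ∈ H := hH ▸ Subgroup.le_normalizer hj
  have hJH : J ≤ H := hH ▸ Subgroup.le_normalizer
  set e : M ≃* H := modelEquiv.trans eH.symm with he
  haveI : (J.subgroupOf H).Normal :=
    Subgroup.normal_subgroupOf_iff_le_normalizer hJH |>.mpr hH.le
  have hp : IsPGroup 3 (J.subgroupOf H) :=
    IsPGroup.of_card (n := 3) (by
      rw [Nat.card_congr (Subgroup.subgroupOfEquivOfLe hJH).toEquiv, hJcard]; norm_num)
  have hcore : (⟨j, hjH⟩ : H) ∈ Cfsg.pCore 3 H :=
    (le_sSup ⟨inferInstance, hp⟩ : J.subgroupOf H ≤ Cfsg.pCore 3 H) hj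
  obtain ⟨a, ha⟩ := H70.CubeFold.Setting.inJ_rot (e.symm ⟨j, hjH⟩).2
    (card_pCore_model e.symm hcore)
  obtain ⟨w, g, k, hw⟩ := orbit_J a (fun h => hj1 (by
    have h1 : e.symm ⟨j, hjH⟩ = 1 := Subtype.ext (ha.trans h)
    simpa using congrArg Subtype.val (e.symm.injective (h1.trans (map_one e.symm).symm))))
  set c : M := ⟨pp g * vv k, mul_mem (enum_mem _) (enum_mem _)⟩
  have hj' : j = (e c : G) * jRep eH w * (e c : G)⁻¹ := by
    have h1 : e.symm ⟨j, hjH⟩ = c * ⟨ee w, enum_mem _⟩ * c⁻¹ := Subtype.ext (ha.trans hw)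
    have h2 := congrArg e h1
    rw [MulEquiv.apply_symm_apply, map_mul, map_mul, map_inv] at h2
    exact congrArg Subtype.val h2
  intro x hx
  rw [Subgroup.mem_centralizer_singleton_iff, hj'] at hx
  have hm : (e c : G)⁻¹ * x * (e c : G) ∈ H := hC w (by
    rw [Subgroup.mem_centralizer_singleton_iff]
    calc (e c : G)⁻¹ * x * (e c : G) * jRep eH w
        = (e c : G)⁻¹ * (x * ((e c : G) * jRep eH w * (e c : G)⁻¹)) * (e c : G) := by group
      _ = (e c : G)⁻¹ * ((e c : G) * jRep eH w * (e c : G)⁻¹ * x) * (e c : G) := by rw [hx]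
      _ = jRep eH w * ((e c : G)⁻¹ * x * (e c : G)) := by group)
  have := mul_mem (mul_mem (e c).2 hm) (inv_mem (e c).2)
  simpa [mul_assoc] using this

end Cfsg.Agent.H94.NineDeg
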